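import Cfsg.Agent.H438.Fpr.HNC
import Cfsg.Agent.H715.Fpr.Row4_m3
import Cfsg.Agent.H147.Gen.Outer_m3
import Cfsg.Agent.Prune
set_option linter.all false
prune_inst 0x7f00000000000000000000000000000000000000000000000000000000000000000000000000000000000000000000000000000000000000000000000000000000000000000000000000000000000000003fffffffffffffffffffffffffffbeffbdffffffff
open scoped Cfsg.Agent.FastGrp

/-!
# S4327, `HN`: the orders of the proper subgroups of order divisible by 19 (helper285)
-/

set_option autoImplicit false

namespace Cfsg.Agent.H285.Gen.HN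

open Subgroup Cfsg.Agent.H147.Gen Cfsg.Agent.H940.Eng Cfsg.Agent.H940.Eng.D

abbrev G : Type := Cfsg.Spor.HN

/-- the local data -/
def loc : List LD := [⟨19, 19, [(3, 2), (19, 1)]⟩, ⟨11, 22, [(2, 2), (5, 1), (11, 1)]⟩, ⟨7, 420, [(2, 3), (3, 2), (5, 1), (7, 1)]⟩]

theorem card : Nat.card G = n_hn := Cfsg.Agent.H149.Sp.card_hn
theorem fin : Finite G := Nat.finite_of_card_ne_zero (by rw [card]; decide)
theorem simple : IsSimpleGroup G := Cfsg.Agent.S1701.result.1

theorem ctx (B : Base) : Ctx G l_hn n_hn o_hn loc where
  fin := fin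
  simple := simple
  card := card
  val := v_hn
  nodup := nd_hn
  ords := ords_hn B
  loc := by
    have := fin
    have := simple
    intro ld hld
    simp only [loc, List.mem_cons, List.not_mem_nil, or_false] at hld
    rcases hld with rfl | rfl | rfl
    · exact loc_of_eq card (by decide +kernel) (by decide +kernel) (by decide +kernel) fun R hR => by
        obtain ⟨h1, h2⟩ := Cfsg.Agent.H438.Fpr.HN.cn19 hR
        rw [h1, h2]; decide +kernel
    · exact loc_of_eq card (by decide +kernel) (by decide +kernel) (by decide +kernel) fun R hR => by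
        obtain ⟨h1, h2⟩ := Cfsg.Agent.H438.Fpr.HN.cn11 hR
        rw [h1, h2]; decide +kernel
    · exact loc_of_eq card (by decide +kernel) (by decide +kernel) (by decide +kernel) fun R hR => by
        obtain ⟨h1, h2⟩ := Cfsg.Agent.H438.Fpr.HN.cn7 hR
        rw [h1, h2]; decide +kernel

/-- the orders of the overgroups of an element of order 19 -/
def os : List ℕ := [19, 57, 171, 3420, 5515776, 16547328]

theorem orders (B : Base) (K : Subgroup G) (h : 19 ∣ Nat.card K) (hK : K ≠ ⊤) : Nat.card K ∈ os :=
  orders2 (ctx B) ⟨19, 19, [(3, 2), (19, 1)]⟩ (by simp [loc]) os 20 (by decide +kernel) K h hK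

theorem chain : chainOK os 5 = true := by decide +kernel

end Cfsg.Agent.H285.Gen.HN

private theorem dce_4fe0774dad50 : _root_.True := by
  try have : _root_.True := by simp only [_root_.Cfsg.Agent.H285.Gen.HN.loc.eq_1]
  exact _root_.True.intro
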