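import Cfsg.Agent.H285.Gen.HNTask
import Cfsg.Agent.Lib.PackCol
import Cfsg.Agent.H914.Gs.SpGood_m3
import Cfsg.Agent.H406.GS.SLThree_m3
import Cfsg.Agent.KFacts.RgdOwn_m3
import Cfsg.Agent.H441.GS.Chain
import Cfsg.Agent.H285.Gen.HNW3_m3
import Cfsg.Agent.H285.Gen.HNW4_m3
import Cfsg.Agent.H293.TwExc
import Cfsg.Agent.H147.Gen.Outer_m3
import Cfsg.Agent.H715.Fpr.HS
import Cfsg.Agent.H799.PiBS.HS
import Cfsg.Agent.H968.Gen.He_m3
import Cfsg.Agent.FastGrp
import Cfsg.Agent.Prune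
set_option linter.all false

section
prune_inst 0x7ffcfdfbafb8bddfffff7e7fffffdffde9f95fffe6dffdcb7fe0edff2b9f6b0cede5fbad8fe112fe1ef7629410b87b53fdffffffea6bfc7ffffd5ff45ffbee5ff5f7bd0851ff8cb40fbc4fffe3f07f8e7f3fffffffffdfffffffffffffffffbeffffffffffff

-- part: H285/Gen/HNW5
section
set_option linter.all false
open scoped Cfsg.Agent.FastGrp

/-!
# S4327, `HN`: words of order 19, part 5 (helper285)
-/

set_option autoImplicit false
set_option maxRecDepth 100000

namespace Cfsg.Agent.H285.Gen.HN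

open Cfsg.Agent.Lib.PackMat Cfsg.Agent.Lib.PackMatGroup Cfsg.Agent.Lib.PackMatMul Cfsg.Agent.HN.RepData

set_option Elab.async false in
theorem k_q33 : K3 19 (wd [2, 2, 4]) :=
  task2 (g := [10]) (gi := [10, 10, 10, 10]) (by (rewrite [show @Cfsg.Agent.Lib.PackMatMul.checkS = delta% @Cfsg.Agent.Lib.PackMatMul.checkS from by delta Cfsg.Agent.Lib.PackMatMul.checkS; rfl, Cfsg.Agent.Lib.PackCol.withM_col]; decide +kernel)) (by decide) (by decide)
set_option Elab.async false in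
theorem k_f00_0 : K3 19 (wd [5]) :=
  task2 (g := [19, 10]) (gi := [10, 10, 10, 10, 18]) (by (rewrite [show @Cfsg.Agent.Lib.PackMatMul.checkS = delta% @Cfsg.Agent.Lib.PackMatMul.checkS from by delta Cfsg.Agent.Lib.PackMatMul.checkS; rfl, Cfsg.Agent.Lib.PackCol.withM_col]; decide +kernel)) (by decide) (by decide)
set_option Elab.async false in
theorem k_f00_1 : K3 19 (wd [0, 5]) :=
  task2 (g := [14, 12]) (gi := [13, 15]) (by (rewrite [show @Cfsg.Agent.Lib.PackMatMul.checkS = delta% @Cfsg.Agent.Lib.PackMatMul.checkS from by delta Cfsg.Agent.Lib.PackMatMul.checkS; rfl, Cfsg.Agent.Lib.PackCol.withM_col]; decide +kernel)) (by decide) (by decide)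
set_option Elab.async false in
theorem k_f00_2 : K3 19 (wd [0, 0, 5]) :=
  task2 (g := [11]) (gi := [11, 11, 11, 11]) (by (rewrite [show @Cfsg.Agent.Lib.PackMatMul.checkS = delta% @Cfsg.Agent.Lib.PackMatMul.checkS from by delta Cfsg.Agent.Lib.PackMatMul.checkS; rfl, Cfsg.Agent.Lib.PackCol.withM_col]; decide +kernel)) (by decide) (by decide)

end Cfsg.Agent.H285.Gen.HN
end

-- part: H290/GS/F4
section
prune_inst 0x204000400000000000000000000000080000900000000000200142004800208000200008001000080224002000002000000010002000000000000000000000002a000001000004000000000004000000000000000000000000000000000000000000000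
set_option linter.all false
open scoped Cfsg.Agent.FastGrp

/-!
# S4327: the automorphisms of order two of `F₄(2^f)` interchanging the lengths (helper290)
-/

set_option autoImplicit false
set_option linter.unusedSectionVars false

namespace Cfsg.Agent.H290.GS.F4

open CoxeterSystem Cfsg.Agent.ChevalleyStructure.CoxeterGeom Cfsg.Agent.Tits.Roots Cfsg.Agent.Tits.Core
open Cfsg.Lie Cfsg.Agent.ChevalleyStructure Cfsg.Agent.ChevalleyStructure.Elts
  Cfsg.Agent.ChevalleyStructure.RootVec Cfsg.Agent.ChevalleyStructure.CoxeterGeomTypes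
open Cfsg.Agent.Nodes Cfsg.Agent.Nodes.Reps Cfsg.Agent.Nodes.BNOf Cfsg.Agent.Nodes.RGDChev Cfsg.Agent.Nodes.Coroot
  Cfsg.Agent.Nodes.KindF Cfsg.Agent.Nodes.StabComb
  Cfsg.Agent.KFacts.ChevTwo Cfsg.Agent.KFacts.ChevTwoTab
  Cfsg.Agent.KFacts.ChevTwoInst Cfsg.Agent.KFacts.RgdAut Cfsg.Agent.KFacts.RgdDiag
  Cfsg.Agent.KFacts.F4Star Cfsg.Agent.KFacts.F4Cent Cfsg.Agent.KFacts.F4Pair
open Cfsg.Agent.KFacts.RgdChevCoord (TT)
open Cfsg.Agent.H147.Gen (CA)

universe u

/-! ### the map on the roots -/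

/-- the map interchanging the lengths -/
def pi4 (x : Fin 4 → ℤ) : Fin 4 → ℤ :=
  if x 0 % 2 = 0 ∧ x 1 % 2 = 0 then ![x 3, x 2, x 1 / 2, x 0 / 2] else ![2 * x 3, 2 * x 2, x 1, x 0]

/-- the reflection, computable -/
def rf (i : Fin 4) (x : Fin 4 → ℤ) : Fin 4 → ℤ :=
  fun k => x k - if k = i then (cartanOf chevF4 4 i 0 * x 0 + cartanOf chevF4 4 i 1 * x 1 + cartanOf chevF4 4 i 2 * x 2 +
    cartanOf chevF4 4 i 3 * x 3) else 0

theorem pi4_sr : ∀ i : Fin 4, pi4 (sr i) = sr (Fin.revPerm i) := by decide +kernel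

theorem tab_pi : ∀ r < 48, ∀ j : Fin 4, pi4 (rf j (vec chevF4 4 r)) = rf (Fin.revPerm j) (pi4 (vec chevF4 4 r)) := by
  decide +kernel

/-- the cyclic word of the longest element -/
def wd : List (Fin 4) := [0, 1, 2, 3, 0, 1, 2, 3, 0, 1, 2, 3, 0, 1, 2, 3, 0, 1, 2, 3, 0, 1, 2, 3]

theorem tab_w0 : ∀ i : Fin 4, wd.foldr rf (sr i) = -sr i := by decide +kernel

section W

variable {W : Type*} [Group W] (cs : CoxeterSystem CoxeterMatrix.F₄ W)

theorem rep_rf (i : Fin 4) (x : Fin 4 → ℤ) : rep cs isType.isCartan (cs.simple i) x = rf i x := by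
  funext k
  unfold rf
  by_cases hk : k = i
  · subst hk
    rw [rep_simple_apply_self, if_pos rfl]
    unfold CoxeterGeom.pairing
    rw [Fin.sum_univ_four]
  · rw [rep_simple_apply (hk := hk), if_neg hk, sub_zero]

theorem rep_word (ω : List (Fin 4)) (x : Fin 4 → ℤ) :
    rep cs isType.isCartan (cs.wordProd ω) x = ω.foldr rf x := by
  induction ω with
  | nil => rw [wordProd_nil, map_one, Module.End.one_apply, List.foldr_nil]
  | cons i ω ih => rw [wordProd_cons, rep_mul_apply, ih, rep_rf, List.foldr_cons]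

theorem rep_wd (x : Fin 4 → ℤ) : rep cs isType.isCartan (cs.wordProd wd) x = -x := by
  rw [Cfsg.Agent.H441.GS.rep_eq_sum]
  conv_rhs => rw [Cfsg.Agent.KFacts.RgdPar.eq_sum_sr x]
  rw [← Finset.sum_neg_distrib]
  refine Finset.sum_congr rfl fun k _ => ?_
  rw [rep_word, tab_w0, smul_neg]

theorem rep_w0 [Finite W] (x : Fin 4 → ℤ) : rep cs isType.isCartan (w0 cs) x = -x := by
  have h1 : (cs.wordProd wd)⁻¹ * w0 cs = 1 := by
    apply eq_one_of_nonneg cs isType.isCartan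
    intro i
    have h2 : rep cs isType.isCartan (w0 cs) (sr i) ≤ 0 := rep_w0_nonpos (isRoot_sr cs _ i) (sr_nonneg i)
    change 0 ≤ rep cs isType.isCartan ((cs.wordProd wd)⁻¹ * w0 cs) (sr i)
    have h3 : rep cs isType.isCartan (cs.wordProd wd)⁻¹ (rep cs isType.isCartan (w0 cs) (sr i)) =
        -rep cs isType.isCartan (w0 cs) (sr i) := by
      have h4 := rep_wd cs (-rep cs isType.isCartan (w0 cs) (sr i))
      rw [_root_.neg_neg] at h4
      conv_lhs => rw [← h4]
      rw [rep_inv_apply]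
    rw [rep_mul_apply, h3]
    exact neg_nonneg.2 h2
  rw [← inv_mul_eq_one.1 h1]
  exact rep_wd cs x

/-- the parity is invariant -/
theorem even_rf (i : Fin 4) (x : Fin 4 → ℤ) (h : x 0 % 2 = 0 ∧ x 1 % 2 = 0) :
    (rf i x) 0 % 2 = 0 ∧ (rf i x) 1 % 2 = 0 := by
  have t : ∀ i j : Fin 4, cartanOf chevF4 4 i j =
      (![![2, -1, 0, 0], ![-1, 2, -2, 0], ![0, -1, 2, -1], ![0, 0, -1, 2]] : Fin 4 → Fin 4 → ℤ) i j := by
    decide +kernel
  unfold rf
  simp only [t]
  obtain ⟨h0, h1⟩ := h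
  (revert i; simp only [_root_.Fin.forall_fin_succ, Fin.isValue, Int.reduceNeg, _root_.Matrix.cons_val', _root_.Matrix.cons_val_zero, _root_.Matrix.cons_val_fin_one, _root_.Matrix.cons_val_one, _root_.Matrix.cons_val, _root_.EuclideanDomain.mod_eq_zero, ↓reduceIte, _root_.neg_mul, _root_.one_mul, _root_.MulZeroClass.zero_mul, _root_.add_zero, _root_.one_ne_zero, _root_.sub_zero, _root_.Matrix.cons_val_succ, _root_.Fin.succ_zero_eq_one, _root_.zero_ne_one, _root_.Fin.succ_one_eq_two, Fin.reduceEq, _root_.zero_add, Fin.reduceSucc, _root_.IsEmpty.forall_iff, _root_.and_true, _root_.and_self]) <;> (repeat' with_reducible apply And.intro) <;> omega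

theorem even_rep (w : W) {x : Fin 4 → ℤ} (h : x 0 % 2 = 0 ∧ x 1 % 2 = 0) :
    rep cs isType.isCartan w x 0 % 2 = 0 ∧ rep cs isType.isCartan w x 1 % 2 = 0 := by
  obtain ⟨ω, rfl⟩ := cs.wordProd_surjective w
  rw [rep_word]
  induction ω with
  | nil => exact h
  | cons i ω ih => rw [List.foldr_cons]; exact even_rf i _ ih

theorem hlen (w : W) (i : Fin 4) : rep cs isType.isCartan w (sr (Fin.revPerm i)) ≠ sr i := by
  intro h
  have h' : rep cs isType.isCartan w⁻¹ (sr i) = sr (Fin.revPerm i) := by rw [← h, rep_inv_apply]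
  have key : ∀ i : Fin 4, ((sr i : Fin 4 → ℤ) 0 % 2 = 0 ∧ (sr i : Fin 4 → ℤ) 1 % 2 = 0 ∧
      ¬ ((sr (Fin.revPerm i) : Fin 4 → ℤ) 0 % 2 = 0 ∧ (sr (Fin.revPerm i) : Fin 4 → ℤ) 1 % 2 = 0)) ∨
      ((sr (Fin.revPerm i) : Fin 4 → ℤ) 0 % 2 = 0 ∧ (sr (Fin.revPerm i) : Fin 4 → ℤ) 1 % 2 = 0 ∧
      ¬ ((sr i : Fin 4 → ℤ) 0 % 2 = 0 ∧ (sr i : Fin 4 → ℤ) 1 % 2 = 0)) := by decide +kernel
  rcases key i with ⟨h1, h2, h3⟩ | ⟨h1, h2, h3⟩
  · apply h3
    rw [← h']
    exact even_rep cs _ ⟨h1, h2⟩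
  · apply h3
    rw [← h]
    exact even_rep cs _ ⟨h1, h2⟩

theorem pi4_rep {r : Fin 4 → ℤ} (hr : IsRoot cs isType.isCartan r) (j : Fin 4) :
    pi4 (rep cs isType.isCartan (cs.simple j) r) =
      rep cs isType.isCartan (cs.simple (Fin.revPerm j)) (pi4 r) := by
  obtain ⟨s, hs, rfl⟩ := exists_v cs hr
  rw [rep_rf, rep_rf]
  exact tab_pi s hs j

/-- the table of `x X_r = X_{XN r}` -/
def XN (r : ℕ) : ℕ := [44, 40, 39, 47, 38, 36, 29, 46, 45, 43, 32, 42, 31, 26, 24, 37, 35, 28, 41, 30, 25, 34, 27, 33,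
  14, 20, 13, 22, 17, 6, 19, 12, 10, 23, 21, 16, 5, 15, 4, 2, 1, 18, 11, 9, 0, 8, 7, 3].getD r 0

theorem tab_XN : ∀ r < 48, XN r < 48 ∧ -pi4 (v r) = v (XN r) ∧ XN (XN r) = r := by decide +kernel

end W

/-! ### derivations -/

/-- `v r + v s = v t` -/
def addv (r s t : ℕ) : Bool :=
  (List.range 4).all fun i => decide (rt chevF4 r i + rt chevF4 s i = rt chevF4 t i)

/-- the rules:
`0`: `r`, `s`, `r + s` of the same length; `1`, `2`: `r` long, `s` short, one of `r + s`, `r + 2 s` gives the other;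
`3`: `x`; `4`: a step with `f` -/
def rule (F K : List ℕ) (c : ℕ × ℕ × ℕ × ℕ × ℕ) : Bool :=
  match c with
  | (0, r, s, _, t) => K.contains r && K.contains s && decide (r < 48) && decide (s < 48) && decide (t < 48) &&
      addv r s t && decide (carB chevF4 r s = -1) && decide (carB chevF4 s r = -1)
  | (1, r, s, t, u) => K.contains r && K.contains s && K.contains t && decide (r < 48) && decide (s < 48) &&
      decide (t < 48) && decide (u < 48) && addv r s t && addv t s u && decide (carB chevF4 s r = -2) &&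
      decide (carB chevF4 r s = -1)
  | (2, r, s, u, t) => K.contains r && K.contains s && K.contains u && decide (r < 48) && decide (s < 48) &&
      decide (t < 48) && decide (u < 48) && addv r s t && addv t s u && decide (carB chevF4 s r = -2) &&
      decide (carB chevF4 r s = -1)
  | (3, r, _, _, t) => K.contains r && decide (r < 48) && decide (t = XN r)
  | (4, a, b, f, t) => K.contains a && K.contains b && F.contains f && decide (a < 48) && decide (f < 48) &&
      decide (t < 48) && decide (b = XN a) && decide (0 ≤ carB chevF4 f a) && addv f b t &&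
      decide (carB chevF4 f b = -1) && decide (carB chevF4 b f = -1)
  | _ => false

def out (c : ℕ × ℕ × ℕ × ℕ × ℕ) : ℕ := c.2.2.2.2

def check (F : List ℕ) : List ℕ → List (ℕ × ℕ × ℕ × ℕ × ℕ) → Bool
  | K, [] => (List.range 48).all K.contains
  | K, c :: C => rule F K c && check F (out c :: K) C

/-- the derivation for `q > 2` -/
def certA : List (ℕ × ℕ × ℕ × ℕ × ℕ) := [(3, 24, 0, 0, 14), (3, 23, 0, 0, 33), (4, 14, 24, 30, 31), (3, 31, 0, 0, 12),
  (0, 23, 31, 0, 30), (0, 33, 12, 0, 19), (4, 30, 19, 13, 10), (3, 10, 0, 0, 32), (1, 30, 10, 14, 6),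
  (2, 32, 19, 24, 29), (0, 23, 6, 0, 5), (2, 23, 29, 32, 28), (0, 33, 29, 0, 36), (0, 33, 28, 0, 35), (0, 10, 28, 0, 13),
  (0, 10, 35, 0, 20), (1, 6, 33, 10, 17), (1, 6, 35, 13, 25), (0, 29, 35, 0, 39), (3, 35, 0, 0, 16), (3, 13, 0, 0, 26),
  (3, 39, 0, 0, 2), (1, 24, 35, 36, 43), (2, 23, 10, 2, 9), (0, 31, 43, 0, 47), (0, 12, 9, 0, 3), (2, 30, 36, 47, 40),
  (0, 30, 43, 0, 46), (0, 19, 9, 0, 7), (0, 19, 40, 0, 38), (1, 5, 19, 3, 1), (0, 35, 38, 0, 44), (1, 16, 38, 33, 42),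
  (3, 38, 0, 0, 4), (3, 44, 0, 0, 0), (3, 42, 0, 0, 11), (0, 23, 42, 0, 41), (0, 33, 11, 0, 18), (0, 31, 41, 0, 45),
  (0, 12, 18, 0, 8), (2, 30, 33, 41, 37), (0, 19, 37, 0, 34), (1, 6, 34, 12, 22), (1, 5, 34, 11, 21), (0, 17, 21, 0, 15),
  (0, 40, 8, 0, 27)]

/-- the derivation for `q = 2` -/
def certB : List (ℕ × ℕ × ℕ × ℕ × ℕ) := [(3, 24, 0, 0, 14), (4, 24, 14, 7, 3), (3, 3, 0, 0, 47), (4, 47, 3, 35, 9),
  (3, 9, 0, 0, 43), (4, 9, 43, 21, 41), (3, 41, 0, 0, 18), (0, 24, 41, 0, 42), (0, 14, 18, 0, 11), (2, 47, 18, 41, 44),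
  (0, 9, 44, 0, 35), (1, 43, 11, 35, 23), (1, 41, 3, 18, 0), (3, 35, 0, 0, 16), (3, 23, 0, 0, 33), (2, 24, 35, 43, 36),
  (0, 24, 0, 0, 1), (0, 24, 16, 0, 17), (0, 14, 44, 0, 40), (0, 14, 35, 0, 28), (0, 14, 36, 0, 29), (0, 3, 33, 0, 7),
  (0, 3, 36, 0, 10), (1, 47, 3, 29, 6), (1, 47, 11, 40, 30), (0, 47, 23, 0, 46), (0, 9, 36, 0, 20), (0, 9, 29, 0, 13),
  (1, 43, 3, 20, 2), (0, 43, 6, 0, 26), (2, 41, 14, 30, 37), (0, 41, 1, 0, 15), (1, 41, 13, 35, 25), (2, 42, 3, 1, 19),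
  (0, 42, 30, 0, 45), (0, 11, 19, 0, 8), (0, 44, 13, 0, 39), (0, 44, 8, 0, 34), (1, 23, 29, 28, 32), (0, 23, 6, 0, 5),
  (0, 0, 45, 0, 21), (0, 24, 30, 0, 31), (2, 24, 37, 45, 38), (0, 24, 21, 0, 22), (0, 14, 19, 0, 12), (0, 14, 34, 0, 27),
  (1, 23, 12, 11, 4)]

theorem checkA : check [30, 13] [24, 23] certA = true := by decide +kernel

theorem checkB : check [7, 35, 21] [24] certB = true := by decide +kernel

section Sound

variable {K : Type u} [Field K] [Finite K] [CharP K 2]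

/-- the standard Coxeter system -/
abbrev cF : CoxeterSystem CoxeterMatrix.F₄ CoxeterMatrix.F₄.Group := CoxeterMatrix.F₄.toCoxeterSystem

instance : Finite CoxeterMatrix.F₄.Group := finite_W isType cF

/-- the automorphism maps `X_r` onto `X_{XN r}` -/
def Sw (x : MulAut ↥(chevF4.group K)) : Prop :=
  ∀ r < 48, ∀ y, x y ∈ XF K (v (XN r)) ↔ y ∈ XF K (v r)

/-- the root subgroup is reached -/
def PP (x : MulAut ↥(chevF4.group K)) (l : List ↥(chevF4.group K)) (r : ℕ) : Prop := ∀ t : K, eF K (v r) t ∈ KK x l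

theorem dat : Data cF isType.isCartan (eF K) := (sysF (K := K) cF).data

theorem mem_X {r : ℕ} (hr : r < 48) (y : ↥(chevF4.group K)) : y ∈ XF K (v r) ↔ ∃ t, eF K (v r) t = y :=
  (sysF (K := K) cF).mem_X _ (isRoot_v cF hr) y

theorem sum_eq {r s t : ℕ} (h : addv r s t = true) : v r + v s = v t := by
  funext i
  have h1 := List.all_eq_true.1 h i (List.mem_range.2 i.2)
  exact of_decide_eq_true h1

theorem sum_eq' {r s t u : ℕ} (h : addv r s t = true) (h' : addv t s u = true) : v r + (2 : ℤ) • v s = v u := by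
  rw [← sum_eq h', ← sum_eq h, two_smul, add_assoc]

variable {x : MulAut ↥(chevF4.group K)} {l : List ↥(chevF4.group K)}

theorem comm_mem {a b : ↥(chevF4.group K)} (ha : a ∈ KK x l) (hb : b ∈ KK x l) : a * b * a⁻¹ * b⁻¹ ∈ KK x l :=
  mul_mem (mul_mem (mul_mem ha hb) (inv_mem ha)) (inv_mem hb)

/-- `x` maps onto -/
theorem PP.apply (hx : Sw x) {r : ℕ} (hr : r < 48) (h : PP x l r) : PP x l (XN r) := by
  intro t
  have h1 : x (x⁻¹ (eF K (v (XN r)) t)) ∈ XF K (v (XN r)) := by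
    rw [MulAut.apply_inv_self]
    exact (mem_X (tab_XN r hr).1 _).2 ⟨t, rfl⟩
  obtain ⟨s, hs⟩ := (mem_X hr _).1 ((hx r hr _).1 h1)
  have h2 := KK_apply (h s)
  rwa [hs, MulAut.apply_inv_self] at h2

theorem rule_sound (hx : Sw x) {F : List ℕ} (hF : ∀ f ∈ F, eF K (v f) 1 ∈ l) {L : List ℕ}
    (hL : ∀ r ∈ L, PP x l r) {c : ℕ × ℕ × ℕ × ℕ × ℕ} (hc : rule F L c = true) : PP x l (out c) := by
  have hcF : ∀ {r s : ℕ}, r < 48 → s < 48 → cpr cF isType.isCartan (v s) (v r) = carB chevF4 r s := fun hr hs =>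
    cpr_v cF hr hs
  match c, hc with
  | (0, r, s, _, t), hc =>
    simp only [rule, Bool.and_eq_true, decide_eq_true_eq, List.contains_iff_mem] at hc
    obtain ⟨⟨⟨⟨⟨⟨⟨h1, h2⟩, h3⟩, h4⟩, h5⟩, h6⟩, h7⟩, h8⟩ := hc
    intro a
    have h9 := dat (K := K).comm1 _ _ (isRoot_v cF h3) (isRoot_v cF h4) (by rw [hcF h4 h3]; exact h8)
      (by rw [hcF h3 h4]; exact h7) a 1
    rw [mul_one, sum_eq h6, commutatorElement_def] at h9
    change eF K (v t) a ∈ KK x l
    rw [← h9]
    exact comm_mem (hL r h1 a) (hL s h2 1)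
  | (1, r, s, t, u), hc =>
    simp only [rule, Bool.and_eq_true, decide_eq_true_eq, List.contains_iff_mem] at hc
    obtain ⟨⟨⟨⟨⟨⟨⟨⟨⟨⟨h1, h2⟩, h3⟩, h4⟩, h5⟩, h6⟩, h7⟩, h8⟩, h9⟩, h10⟩, h11⟩ := hc
    intro a
    have h12 := dat (K := K).comm2 _ _ (isRoot_v cF h4) (isRoot_v cF h5) (by rw [hcF h5 h4]; exact h10)
      (by rw [hcF h4 h5]; exact h11) a 1
    rw [one_pow, mul_one, sum_eq h8, sum_eq' h8 h9, commutatorElement_def] at h12
    change eF K (v u) a ∈ KK x l
    have h13 := mul_mem (inv_mem (hL t h3 a)) (comm_mem (hL r h1 a) (hL s h2 1))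
    rwa [h12, inv_mul_cancel_left] at h13
  | (2, r, s, u, t), hc =>
    simp only [rule, Bool.and_eq_true, decide_eq_true_eq, List.contains_iff_mem] at hc
    obtain ⟨⟨⟨⟨⟨⟨⟨⟨⟨⟨h1, h2⟩, h3⟩, h4⟩, h5⟩, h6⟩, h7⟩, h8⟩, h9⟩, h10⟩, h11⟩ := hc
    intro a
    have h12 := dat (K := K).comm2 _ _ (isRoot_v cF h4) (isRoot_v cF h5) (by rw [hcF h5 h4]; exact h10)
      (by rw [hcF h4 h5]; exact h11) a 1
    rw [one_pow, mul_one, sum_eq h8, sum_eq' h8 h9, commutatorElement_def] at h12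
    change eF K (v t) a ∈ KK x l
    have h13 := mul_mem (comm_mem (hL r h1 a) (hL s h2 1)) (inv_mem (hL u h3 a))
    rwa [h12, mul_inv_cancel_right] at h13
  | (3, r, _, _, t), hc =>
    simp only [rule, Bool.and_eq_true, decide_eq_true_eq, List.contains_iff_mem] at hc
    obtain ⟨⟨h1, h2⟩, h3⟩ := hc
    change PP x l t
    rw [h3]
    exact PP.apply hx h2 (hL r h1)
  | (4, a, b, f, t), hc =>
    simp only [rule, Bool.and_eq_true, decide_eq_true_eq, List.contains_iff_mem] at hc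
    obtain ⟨⟨⟨⟨⟨⟨⟨⟨⟨⟨h1, h2⟩, h3⟩, h4⟩, h5⟩, h6⟩, h7⟩, h8⟩, h9⟩, h10⟩, h11⟩ := hc
    intro c
    change eF K (v t) c ∈ KK x l
    have hb : b < 48 := h7 ▸ (tab_XN a h4).1
    have h12 := dat (K := K).comm1 _ _ (isRoot_v cF h5) (isRoot_v cF hb) (by rw [hcF hb h5]; exact h11)
      (by rw [hcF h5 hb]; exact h10) 1 c
    rw [one_mul, sum_eq h9, commutatorElement_def] at h12
    -- the preimage
    have h13 : x (x⁻¹ (eF K (v b) c)) ∈ XF K (v (XN a)) := by
      rw [MulAut.apply_inv_self, ← h7]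
      exact (mem_X hb _).2 ⟨c, rfl⟩
    obtain ⟨s, hs⟩ := (mem_X h4 _).1 ((hx a h4 _).1 h13)
    have h14 : eF K (v a) s * eF K (v f) 1 = eF K (v f) 1 * eF K (v a) s :=
      dat (K := K).comm_of_nonneg (isRoot_v cF h4) (isRoot_v cF h5) (by rw [hcF h5 h4]; exact h8) s 1
    have h15 := KK_step (hF f h3) (hL a h1 s) h14.symm
    rw [hs, MulAut.apply_inv_self] at h15
    have h16 := mul_mem h15 (inv_mem (hL b h2 c))
    rwa [h12] at h16

theorem sound (hx : Sw x) {F : List ℕ} (hF : ∀ f ∈ F, eF K (v f) 1 ∈ l) :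
    ∀ (C : List (ℕ × ℕ × ℕ × ℕ × ℕ)) (L : List ℕ), check F L C = true → (∀ r ∈ L, PP x l r) → KK x l = ⊤
  | [], L, hC, hL => by
    rw [eq_top_iff, ← G1_eq_top (K := K) isType cF]
    refine RGD.Sup_le fun r hr y hy => ?_
    obtain ⟨s, hs, rfl⟩ := exists_v cF hr
    obtain ⟨t, rfl⟩ := (mem_X hs y).1 hy
    have h1 := List.all_eq_true.1 hC s (List.mem_range.2 hs)
    rw [List.contains_iff_mem] at h1
    exact hL s h1 t
  | c :: C, L, hC, hL => by
    rw [check, Bool.and_eq_true] at hC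
    refine sound hx hF C _ hC.2 fun r hr => ?_
    rcases List.mem_cons.1 hr with rfl | hr
    · exact rule_sound hx hF hL hC.1
    · exact hL r hr

end Sound

section Main

variable {K : Type u} [Field K] [Finite K] [CharP K 2] {x : MulAut ↥(chevF4.group K)}

theorem comm_e {r s : ℕ} (hr : r < 48) (hs : s < 48) (h : 0 ≤ carB chevF4 s r) {a b : ↥(chevF4.group K)}
    (ha : a ∈ XF K (v r)) (hb : b ∈ XF K (v s)) : a * b = b * a := by
  obtain ⟨c, rfl⟩ := (mem_X hr a).1 ha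
  obtain ⟨d, rfl⟩ := (mem_X hs b).1 hb
  exact dat (K := K).comm_of_nonneg (isRoot_v cF hr) (isRoot_v cF hs) (by rw [cpr_v cF hs hr]; exact h) c d

theorem start_comm (hx : Sw x) : ∀ a ∈ XF K (v 24) ⊔ XF K (v 23), ∀ b ∈ XF K (v 24) ⊔ XF K (v 23),
    a * x b = x b * a := by
  have h1 : XF K (v 24) ⊔ XF K (v 23) ≤
      Subgroup.centralizer ((XF K (v 14) ⊔ XF K (v 33) : Subgroup ↥(chevF4.group K)) : Set ↥(chevF4.group K)) := by
    have key : ∀ r s : ℕ, (r = 24 ∨ r = 23) → (s = 14 ∨ s = 33) → ∀ a ∈ XF K (v r), ∀ b ∈ XF K (v s), b * a = a * b := by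
      intro r s hr hs a ha b hb
      refine (comm_e ?_ ?_ ?_ ha hb).symm
      · omega
      · omega
      · rcases hr with rfl | rfl <;> rcases hs with rfl | rfl <;> decide +kernel
    have key2 : ∀ r : ℕ, (r = 24 ∨ r = 23) → XF K (v r) ≤
        Subgroup.centralizer ((XF K (v 14) ⊔ XF K (v 33) : Subgroup ↥(chevF4.group K)) : Set ↥(chevF4.group K)) := by
      intro r hr a ha
      rw [Subgroup.mem_centralizer_iff]
      intro b hb
      have h2 : XF K (v 14) ⊔ XF K (v 33) ≤ Subgroup.centralizer ({a} : Set ↥(chevF4.group K)) := by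
        refine sup_le (fun c hc => ?_) (fun c hc => ?_)
        · rw [Subgroup.mem_centralizer_singleton_iff]
          exact key r 14 hr (Or.inl rfl) a ha c hc
        · rw [Subgroup.mem_centralizer_singleton_iff]
          exact key r 33 hr (Or.inr rfl) a ha c hc
      exact Subgroup.mem_centralizer_singleton_iff.1 (h2 hb)
    exact sup_le (key2 24 (Or.inl rfl)) (key2 23 (Or.inr rfl))
  have h2 : XF K (v 24) ⊔ XF K (v 23) ≤ (XF K (v 14) ⊔ XF K (v 33)).comap x.toMonoidHom := by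
    refine sup_le (fun c hc => ?_) (fun c hc => ?_)
    · exact Subgroup.mem_sup_left ((hx 24 (by norm_num) c).2 hc)
    · exact Subgroup.mem_sup_right ((hx 23 (by norm_num) c).2 hc)
  intro a ha b hb
  exact (Subgroup.mem_centralizer_iff.1 (h1 ha) (x b) (h2 hb)).symm

theorem big (hx : Sw x) {ζ : K} (hζ : ∀ a : K, a ≠ 0 → ∃ j : ℕ, ζ ^ j = a) (hζ0 : ζ ≠ 0) (hζ1 : ζ ^ 2 ≠ 1) :
    CA 11 x := by
  have h24 : IsRoot cF isType.isCartan (v 24) := isRoot_v cF (by norm_num)
  have hneg : -v 24 = v 23 := (v_neg (r := 24) (by norm_num)).symm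
  have m24 : ∀ c : K, eF K (v 24) c ∈ XF K (v 24) ⊔ XF K (v 23) := fun c =>
    Subgroup.mem_sup_left ((mem_X (by norm_num) _).2 ⟨c, rfl⟩)
  have m23 : ∀ c : K, eF K (-v 24) c ∈ XF K (v 24) ⊔ XF K (v 23) := fun c => by
    rw [hneg]
    exact Subgroup.mem_sup_right ((mem_X (by norm_num) _).2 ⟨c, rfl⟩)
  obtain ⟨n, hn⟩ : ∃ n, n = nel (eF K) (v 24) := ⟨_, rfl⟩
  obtain ⟨t, ht⟩ : ∃ t, t = hel (eF K) (v 24) ζ := ⟨_, rfl⟩
  have hnN : n ∈ XF K (v 24) ⊔ XF K (v 23) := by
    rw [hn, nel_def]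
    exact mul_mem (mul_mem (m24 _) (m23 _)) (m24 _)
  have htN : t ∈ XF K (v 24) ⊔ XF K (v 23) := by
    rw [ht, hel_def, ← hn, nc_def]
    exact mul_mem (mul_mem (mul_mem (m24 _) (m23 _)) (m24 _)) hnN
  obtain ⟨l, hl⟩ : ∃ l, l = [t, eF K (v 24) 1, t * eF K (v 24) 1, n, eF K (v 30) 1, eF K (v 13) 1] := ⟨_, rfl⟩
  have hst := start (x := x) (l := l) (N := XF K (v 24) ⊔ XF K (v 23)) (start_comm hx)
    (fun S hS => Cfsg.Agent.KFacts.RgdChevCoord.closure_sq hS) (e := eF K (v 24)) (e' := eF K (v 23)) m24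
    (fun a b => dat (K := K).add _ h24 a b) (t := t) (n := n) (ζ := ζ) htN hnN hζ hζ1
    (fun c => by
      rw [ht, dat (K := K).hel_conj h24 h24 hζ0, cpr_self cF isType.isCartan h24,
        show ζ ^ (2 : ℤ) = ζ ^ 2 from zpow_ofNat ζ 2])
    (by rw [hl]; simp) (by rw [hl]; simp) (by rw [hl]; simp only [_root_.List.mem_cons, _root_.mul_eq_left, _root_.mul_eq_right, _root_.List.not_mem_nil, _root_.or_false, _root_.true_or, _root_.or_true]) (by rw [hl]; simp)
    (fun c => ⟨c, by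
      rw [hn, dat (K := K).nel_conj h24 h24, cpr_self cF isType.isCartan h24, ← hneg]
      congr 1
      rw [two_smul]
      abel⟩)
  refine CA_of_KK (l := l) (sound hx (F := [30, 13]) ?_ certA [24, 23] checkA ?_) (by rw [hl]; simp)
  · intro f hf
    rw [hl]
    simp only [List.mem_cons, List.not_mem_nil, or_false] at hf
    rcases hf with rfl | rfl <;> simp
  · intro r hr
    simp only [List.mem_cons, List.not_mem_nil, or_false] at hr
    rcases hr with rfl | rfl
    · exact hst.1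
    · exact hst.2

theorem small (hx : Sw x) (hK : ∀ a : K, a ≠ 0 → a = 1) : CA 11 x := by
  obtain ⟨l, hl⟩ : ∃ l, l = [eF K (v 1) 1, eF K (v 47) 1, eF K (v 1) 1 * eF K (v 47) 1, eF K (v 7) 1,
    eF K (v 35) 1, eF K (v 21) 1] := ⟨_, rfl⟩
  have h0 : x (eF K (v 47) 1) ∈ XF K (v 3) := (hx 47 (by norm_num) _).2 ((mem_X (by norm_num) _).2 ⟨1, rfl⟩)
  have h1 : eF K (v 1) 1 * x (eF K (v 47) 1) = x (eF K (v 47) 1) * eF K (v 1) 1 :=
    comm_e (r := 1) (s := 3) (by norm_num) (by norm_num) (by decide +kernel) ((mem_X (by norm_num) _).2 ⟨1, rfl⟩) h0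
  have h2 := KK_comm (x := x) (l := l) (g := eF K (v 1) 1) (k := eF K (v 47) 1) (by rw [hl]; simp) (by rw [hl]; simp)
    (by rw [hl]; simp only [_root_.List.mem_cons, _root_.mul_eq_left, _root_.mul_eq_right, _root_.List.not_mem_nil, _root_.or_false, _root_.true_or, _root_.or_true]) h1
  have h3 := dat (K := K).comm1 (v 1) (v 47) (isRoot_v cF (by norm_num)) (isRoot_v cF (by norm_num))
    (by rw [cpr_v cF (by norm_num) (by norm_num)]; decide +kernel)
    (by rw [cpr_v cF (by norm_num) (by norm_num)]; decide +kernel) 1 1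
  rw [one_mul, sum_eq (r := 1) (s := 47) (t := 24) (by decide +kernel), commutatorElement_def] at h3
  rw [h3] at h2
  refine CA_of_KK (l := l) (sound hx (F := [7, 35, 21]) ?_ certB [24] checkB ?_) (by rw [hl]; simp)
  · intro f hf
    rw [hl]
    simp only [List.mem_cons, List.not_mem_nil, or_false] at hf
    rcases hf with rfl | rfl | rfl <;> simp
  · intro r hr
    simp only [List.mem_cons, List.not_mem_nil, or_false] at hr
    subst hr
    intro t
    by_cases ht : t = 0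
    · rw [ht, dat (K := K).zero (isRoot_v cF (by norm_num))]
      exact one_mem _
    · rw [hK t ht]
      exact h2

theorem sw_CA (hx : Sw x) : CA 11 x := by
  by_cases hK : ∀ a : K, a ≠ 0 → a = 1
  · exact small hx hK
  · obtain ⟨g, hg⟩ := IsCyclic.exists_generator (α := Kˣ)
    have hζ : ∀ a : K, a ≠ 0 → ∃ j : ℕ, (g : K) ^ j = a := by
      intro a ha
      obtain ⟨j, hj⟩ := (mem_powers_iff_mem_zpowers).2 (hg (Units.mk0 a ha))
      refine ⟨j, ?_⟩
      have := congrArg Units.val hj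
      simpa using this
    refine big hx hζ g.ne_zero fun h1 => hK fun a ha => ?_
    have h2 : (g : K) = 1 := by
      have h3 : ((g : K) - 1) ^ 2 = 0 := by
        have h4 : (2 : K) = 0 := CharTwo.two_eq_zero
        linear_combination h1 - h4 * (g : K) + h4
      exact sub_eq_zero.1 (pow_eq_zero_iff (two_ne_zero) |>.1 h3)
    obtain ⟨j, hj⟩ := hζ a ha
    rw [← hj, h2, one_pow]

/-- **`F₄(2^f)`: automorphisms of order two interchanging the lengths.** -/
theorem swap_CA {α : MulAut ↥(chevF4.group K)} (hα : α * α = 1) {g₀ : ↥(chevF4.group K)} {σ : Equiv.Perm (Fin 4)}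
    (D : Diag (TT chevF4 K) (XF K) (MulAut.conj g₀ * α) σ)
    (hB : _root_.Cfsg.Agent.KFacts.RgdAut.Fix (MulAut.conj g₀ * α) (RGD.B cF isType.isCartan (TT chevF4 K) (XF K))) (hσ : σ ≠ 1) : CA 11 α := by
  have : Fact (Nat.Prime 2) := ⟨Nat.prime_two⟩
  have R := rgd (K := K) isType cF 2
  have hσ' : σ = Fin.revPerm := (Cfsg.Agent.KFacts.RgdGraphF4.hsw_F4' σ (D.matrix R)).resolve_left hσ
  subst hσ'
  obtain ⟨y, k, β, hk, D', hform⟩ := exists_form R (Cfsg.Agent.KFacts.RgdRigid.GG_eq_top (G1_eq_top isType cF)) hα D hB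
    (fun w i => hlen cF w i)
  apply CA_conj y
  rw [hform]
  apply sw_CA
  intro r hr z
  have h1 := form_apply R D' hk (rep_w0 cF) pi4_sr (fun r hr j => pi4_rep cF hr j) (isRoot_v cF hr) z
  rwa [(tab_XN r hr).2.1] at h1

end Main

end Cfsg.Agent.H290.GS.F4

private theorem dce_fae9aa3d7046 : _root_.True := by
  try have : _root_.True := by simp only [_root_.Cfsg.Agent.H290.GS.F4.rule.eq_4]
  try have : _root_.True := by simp only [_root_.Cfsg.Agent.H290.GS.F4.check.eq_1]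
  try have : _root_.True := by simp only [_root_.Cfsg.Agent.H290.GS.F4.rule.eq_5]
  try have : _root_.True := by simp only [_root_.Cfsg.Agent.H290.GS.F4.rule.eq_3]
  try have : _root_.True := by simp only [_root_.Cfsg.Agent.H290.GS.F4.check.eq_def]
  try have : _root_.True := by simp only [_root_.Cfsg.Agent.H290.GS.F4.check.eq_2]
  try have : _root_.True := by simp only [_root_.Cfsg.Agent.H290.GS.F4.rule.eq_6]
  try have : _root_.True := by simp only [_root_.Cfsg.Agent.H290.GS.F4.rule.eq_1]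
  try have : _root_.True := by simp only [_root_.Cfsg.Agent.H290.GS.F4.rule.eq_2]
  exact _root_.True.intro
end

-- part: H290/GS/GamF4
section
prune_inst 0x302045043422000000180000000021606a000002002308009120090600471121200127016e401a100912bc742008802000000050401800002a008200411800a0842a52000300b10422000180f806000000000000020000000000000000041000000000000
set_option linter.all false
open scoped Cfsg.Agent.FastGrp

/-!
# S4327: the graph automorphism of `F₄(2^f)` as a frame automorphism (helper290)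

* `diag_al` : `al K` has the diagram part `Fin.revPerm`; `fix_al` : it fixes `B`;
* `transport` : the form `conj (k b) β` of an automorphism is transported by `al K`;
* `swap_w` : the reflection in a short root becomes an element with `w δ = -δ` for a long root `δ`.
-/

set_option autoImplicit false
set_option linter.unusedSectionVars false

namespace Cfsg.Agent.H290.GS.GamF4

open CoxeterSystem Cfsg.Agent.ChevalleyStructure.CoxeterGeom Cfsg.Agent.Tits.Roots Cfsg.Agent.Tits.Core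
open Cfsg.Lie Cfsg.Agent.ChevalleyStructure Cfsg.Agent.ChevalleyStructure.Elts
  Cfsg.Agent.ChevalleyStructure.RootVec Cfsg.Agent.ChevalleyStructure.CoxeterGeomTypes
open Cfsg.Agent.Nodes Cfsg.Agent.Nodes.Reps Cfsg.Agent.Nodes.BNOf Cfsg.Agent.Nodes.RGDChev Cfsg.Agent.Nodes.Coroot
  Cfsg.Agent.Nodes.KindF Cfsg.Agent.Nodes.StabComb Cfsg.Agent.Nodes.OppDec Cfsg.Agent.Nodes.Bruhat
  Cfsg.Agent.Nodes.LeviDec Cfsg.Agent.Nodes.NormalForm Cfsg.Agent.Tits.Exchange Cfsg.Agent.KFacts.RgdOpp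
  Cfsg.Agent.KFacts.RgdAut Cfsg.Agent.KFacts.RgdDiag
open Cfsg.Agent.KFacts.RgdChevCoord (TT XX)
open Cfsg.Agent.H296.FFour (hp4 br al tab)
open Cfsg.Agent.H127.Gs (al_mem nroots_F4)
open Cfsg.Agent.H290.GS.F4 (pi4 pi4_sr pi4_rep)

universe u

theorem tab_nonneg : ∀ r < 48, (∀ i : Fin 4, 0 ≤ vec chevF4 4 r i) → ∀ i : Fin 4, 0 ≤ vec chevF4 4 (br r) i := by
  decide +kernel

theorem tab_nonpos : ∀ r < 48, (∀ i : Fin 4, vec chevF4 4 r i ≤ 0) → ∀ i : Fin 4, vec chevF4 4 (br r) i ≤ 0 := by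
  decide +kernel

theorem tab_pos : ∀ i : Fin 4, br (chevF4.simple i) = chevF4.simple (Fin.revPerm i) ∧ chevF4.simple i < 48 ∧
    vec chevF4 4 (chevF4.simple i) = sr i := by decide +kernel

theorem tab_neg : ∀ i : Fin 4, br (chevF4.neg (chevF4.simple i)) = chevF4.neg (chevF4.simple (Fin.revPerm i)) ∧
    chevF4.neg (chevF4.simple i) < 48 ∧ vec chevF4 4 (chevF4.neg (chevF4.simple i)) = -sr i := by decide +kernel

variable {K : Type u} [Field K] [Finite K] [CharP K 2] [PerfectRing K 2] {W : Type*} [Group W] [Finite W]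
  (cs : CoxeterSystem CoxeterMatrix.F₄ W)

theorem al_Sup {S : Set (Fin 4 → ℤ)} (hS : ∀ x ∈ S, ∃ r < 48, vec chevF4 4 r = x ∧ vec chevF4 4 (br r) ∈ S) :
    Fix (al K) (RGD.Sup (XX chevF4 4 K) S) := by
  have h1 : RGD.Sup (XX chevF4 4 K) S ≤ (RGD.Sup (XX chevF4 4 K) S).comap (al K).toMonoidHom := by
    refine RGD.Sup_le fun z hz u hu => ?_
    obtain ⟨r, hr, rfl, h2⟩ := hS z hz
    exact RGD.le_Sup h2 ((al_mem hr u).2 hu)
  have h2 : RGD.Sup (XX chevF4 4 K) S ≤ (RGD.Sup (XX chevF4 4 K) S).comap ((al K)⁻¹).toMonoidHom := by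
    refine RGD.Sup_le fun z hz u hu => ?_
    obtain ⟨r, hr, rfl, h2⟩ := hS z hz
    obtain ⟨e1, e2, -⟩ := tab r hr
    have h3 := al_mem (K := K) e1 ((al K)⁻¹ u)
    rw [e2, MulAut.apply_inv_self] at h3
    exact RGD.le_Sup h2 (h3.1 hu)
  intro z
  constructor
  · intro hz
    have h3 : (al K)⁻¹ (al K z) ∈ RGD.Sup (XX chevF4 4 K) S := h2 hz
    rwa [MulAut.inv_apply_self] at h3
  · intro hz
    exact h1 hz

theorem fix_U : Fix (al K) (RGD.Sup (XX chevF4 4 K) (RGD.Pos cs isType.isCartan)) := by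
  refine al_Sup fun x hx => ?_
  obtain ⟨r, hr, rfl⟩ := (isRoot_iff isType cs x).1 hx.1
  have hr' : r < 48 := by rwa [nroots_F4] at hr
  refine ⟨r, hr', rfl, (isRoot_iff isType cs _).2 ⟨br r, by rw [nroots_F4]; exact (tab r hr').1, rfl⟩, ?_⟩
  exact fun i => tab_nonneg r hr' (fun i => hx.2 i) i

theorem fix_UN : Fix (al K) (UN cs isType.isCartan (XX chevF4 4 K)) := by
  refine al_Sup fun x hx => ?_
  obtain ⟨r, hr, rfl⟩ := (isRoot_iff isType cs x).1 hx.1
  have hr' : r < 48 := by rwa [nroots_F4] at hr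
  refine ⟨r, hr', rfl, (isRoot_iff isType cs _).2 ⟨br r, by rw [nroots_F4]; exact (tab r hr').1, rfl⟩, ?_⟩
  exact fun i => tab_nonpos r hr' (fun i => hx.2 i) i

theorem fix_al : Fix (al K) (RGD.B cs isType.isCartan (TT chevF4 K) (XX chevF4 4 K)) := by
  have : Fact (Nat.Prime 2) := ⟨Nat.prime_two⟩
  have R := rgd (K := K) isType cs 2
  exact fix_B R (Cfsg.Agent.KFacts.RgdRigid.GG_eq_top (G1_eq_top isType cs)) (fix_U cs)

include cs in
theorem diag_al : Diag (TT chevF4 K) (XX chevF4 4 K) (al K) Fin.revPerm := by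
  have : Fact (Nat.Prime 2) := ⟨Nat.prime_two⟩
  have R : RGD cs isType.isCartan 2 (TT chevF4 K) _ (XX chevF4 4 K) := rgd (K := K) isType cs 2
  have hG : Bruhat.GG cs isType.isCartan (TT chevF4 K) (XX chevF4 4 K) = ⊤ :=
    Cfsg.Agent.KFacts.RgdRigid.GG_eq_top (G1_eq_top (K := K) isType cs)
  have hB := fix_B R hG (fix_U cs)
  have hG' : Bruhat.GG cs isType.isCartan (TT chevF4 K) (fun x => XX chevF4 4 K (-x)) = ⊤ := by rw [GG_opp, hG]
  have hBN : Fix (al K) (BN cs isType.isCartan (TT chevF4 K) (XX chevF4 4 K)) := by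
    have := fix_B (opp R) hG' (α := al K) (by rw [U_opp]; exact fix_UN cs)
    rwa [B_opp] at this
  refine ⟨fix_T R hB hBN, fun i z => ?_, fun i z => ?_⟩
  · obtain ⟨h1, h2, h3⟩ := tab_pos i
    obtain ⟨-, -, h4⟩ := tab_pos (Fin.revPerm i)
    have h5 := al_mem (K := K) h2 z
    rw [h1, h3, h4] at h5
    exact h5
  · obtain ⟨h1, h2, h3⟩ := tab_neg i
    obtain ⟨-, -, h4⟩ := tab_neg (Fin.revPerm i)
    have h5 := al_mem (K := K) h2 z
    rw [h1, h3, h4] at h5
    exact h5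

/-- the form is transported by `γ` -/
theorem form_conj {Y : Type*} [Group Y] (γ : MulAut Y) {α β : MulAut Y} {y k b : Y}
    (e : MulAut.conj y * α * (MulAut.conj y)⁻¹ = MulAut.conj (k * b) * β) :
    MulAut.conj (γ y) * (γ * α * γ⁻¹) * (MulAut.conj (γ y))⁻¹ = MulAut.conj (γ k * γ b) * (γ * β * γ⁻¹) := by
  have h1 : ∀ z, MulAut.conj (γ z) = γ * MulAut.conj z * γ⁻¹ := fun z => by
    ext x
    simp only [MulAut.mul_apply, MulAut.conj_apply, map_mul, map_inv, MulAut.apply_inv_self]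
  rw [← map_mul, h1, h1]
  calc γ * MulAut.conj y * γ⁻¹ * (γ * α * γ⁻¹) * (γ * MulAut.conj y * γ⁻¹)⁻¹
      = γ * (MulAut.conj y * α * (MulAut.conj y)⁻¹) * γ⁻¹ := by group
    _ = γ * (MulAut.conj (k * b) * β) * γ⁻¹ := by rw [e]
    _ = _ := by group

theorem mat_rev (i j : Fin 4) : CoxeterMatrix.F₄ (Fin.revPerm i) (Fin.revPerm j) = CoxeterMatrix.F₄ i j := by
  have key : ∀ i j : Fin 4, Cfsg.Agent.KFacts.RgdGraphF4.mF4 (Fin.revPerm i) (Fin.revPerm j) =
      Cfsg.Agent.KFacts.RgdGraphF4.mF4 i j := by decide +kernel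
  exact key i j

/-- the long root opposite to itself -/
theorem swap_w {w : W} {s : Fin 4 → ℤ} (hs : IsRoot cs isType.isCartan s)
    (hw : rep cs isType.isCartan w s = -s) :
    ∃ x, IsRoot cs isType.isCartan x ∧ x = pi4 s ∧
      rep cs isType.isCartan (hat cs Fin.revPerm mat_rev w) x = -x := by
  obtain ⟨v, i, rfl⟩ := hs
  have h0 := hat_root (cs := cs) (h := isType.isCartan) (π := pi4) Fin.revPerm mat_rev pi4_sr
    (fun r hr j => pi4_rep cs hr j)
  refine ⟨rep cs isType.isCartan (hat cs Fin.revPerm mat_rev v) (sr (Fin.revPerm i)), ⟨_, _, rfl⟩, h0 v i, ?_⟩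
  have e1 : -rep cs isType.isCartan v (sr i) = rep cs isType.isCartan (v * cs.simple i) (sr i) := by
    rw [rep_mul_apply, rep_simple_sr, map_neg]
  rw [← rep_mul_apply, ← map_mul, h0, rep_mul_apply, hw, e1, ← h0, map_mul, hat_simple, rep_mul_apply,
    rep_simple_sr, map_neg]

end Cfsg.Agent.H290.GS.GamF4
end

-- part: H285/Gen/HNW3_mg
section

end

-- part: H406/GS/Small_mg
section

end

-- part: H38/Gs/FThree
section
prune_inst 0x3000410464220000000000000000216022000002000008008020010608490000000000012e10001000008c8400080020000000000020000000000000011800a0800042000200a000220001000000000000000000020000000000000000000000000000000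
set_option linter.all false
open scoped Cfsg.Agent.FastGrp

/-!
# `F₄(3)` and `F₄(q)`, `q` odd: the exceptional automorphisms (S4327), helper38

* `start_an` : `|K| = 2, 3` : from a table of type `A₂` four conjugates reach `⟨X ρ, X (-ρ)⟩`;
* `f4_exc` : the exceptional automorphisms of `F₄(q)`, `q` odd : `Reach α 8 ⊤`.
-/

set_option autoImplicit false
set_option linter.unusedSectionVars false

namespace Cfsg.Agent.H38.Gs

open CoxeterSystem Cfsg.Agent.ChevalleyStructure.CoxeterGeom Cfsg.Agent.Tits.Roots Cfsg.Agent.Tits.Core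
  Cfsg.Agent.Tits.Exchange Cfsg.Agent.Nodes.Reps Cfsg.Agent.Nodes.BNOf Cfsg.Agent.Nodes.StabComb
  Cfsg.Agent.Nodes.Bruhat Cfsg.Agent.Nodes.OppDec Cfsg.Agent.Nodes.LeviDec Cfsg.Agent.Nodes.NormalForm
  Cfsg.Agent.Nodes.Coroot Cfsg.Agent.Nodes.PosPair
open Cfsg.Agent.KFacts.RgdOpp Cfsg.Agent.KFacts.RgdAut Cfsg.Agent.KFacts.RgdDiag Cfsg.Agent.KFacts.RgdRigid
  Cfsg.Agent.KFacts.RgdField Cfsg.Agent.KFacts.RgdChevCoord
open Cfsg.Agent.ChevalleyStructure.SL2Hom (up lo)
open Cfsg.Agent.Nodes.RGDFoldSL (wS hS coe_wS coe_hS psi psi_up psi_lo psi_wS psi_mem)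
open Cfsg.Agent.H915.Gs (Reach Reach₁ im Gn)
open Cfsg.Agent.H122.S5 (xe xe_add IsAn rt sg rx rx_stein rx_h)
open Cfsg.Agent.H406.GS (wc sl3_small reach_of_hom xc_eq)
open Cfsg.Lie Cfsg.Agent.ChevalleyStructure Cfsg.Agent.ChevalleyStructure.Elts
  Cfsg.Agent.ChevalleyStructure.NPerm Cfsg.Agent.ChevalleyStructure.CoxeterGeomTypes Cfsg.Agent.Nodes.RGDChev

universe u

section Split

variable {D : ChevalleyDatum} {l : ℕ} {M : CoxeterMatrix (Fin l)} (hp : IsType D l M) {K : Type u} [Field K]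

/-- **START from a table of type `A₂`**, `|K| = 2, 3` -/
theorem start_tab [Fintype K] (hK : Fintype.card K = 2 ∨ Fintype.card K = 3) {i : Fin l} {R : List (List ℕ)}
    {σ : List (List ℤ)} (hA : IsAn D 3 R σ) (h01 : rt R 0 1 = D.simple i) (hσ : sg σ 0 1 = 1)
    {b : MulAut ↥(D.group K)} {c : K} (hc : c ≠ 0) (hb : ∀ t, b (PhiS hp K i (up t)) = PhiS hp K i (lo (c * t))) :
    Reach b 4 (PhiS hp K i).range := by
  obtain ⟨π, hπ, -, -⟩ := CTFrame.Hom.exists_hom (rx_stein hp.inList K hA) (rx_h hp.inList K hA)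
    (by rw [Fintype.card_fin])
  have hi := simple_lt hp.inList (lt_rank hp i)
  have h10 : rt R 1 0 = D.neg (D.simple i) := by
    rw [← h01]
    exact (hA.neg 0 1 (by decide)).1.symm
  have hσ' : sg σ 1 0 = 1 := by
    rw [← hσ]
    exact (hA.neg 0 1 (by decide)).2.1.symm
  have hvi : vec D l (D.simple i) = sr i := vec_simple hp i
  have hvi' : vec D l (D.neg (D.simple i)) = -sr i := by rw [vec_neg hp hi, hvi]
  have hni := neg_lt hp.inList hi
  have e01 : ∀ t, π (Matrix.SpecialLinearGroup.transvection (show (0 : Fin 3) ≠ 1 by decide) t) = PhiS hp K i (up t) := by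
    intro t
    rw [hπ, PhiS_up, ← hvi, xc_eq hp hi]
    unfold rx
    have h1 : sg σ ((0 : Fin 3) : ℕ) ((1 : Fin 3) : ℕ) = 1 := hσ
    rw [h1, Int.cast_one, one_mul]
    exact congrArg (fun s => xe hp.inList K s t) h01
  have e10 : ∀ t, π (Matrix.SpecialLinearGroup.transvection (show (1 : Fin 3) ≠ 0 by decide) t) = PhiS hp K i (lo t) := by
    intro t
    rw [hπ, PhiS_lo, ← hvi', xc_eq hp hni]
    unfold rx
    have h1 : sg σ ((1 : Fin 3) : ℕ) ((0 : Fin 3) : ℕ) = 1 := hσ'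
    rw [h1, Int.cast_one, one_mul]
    exact congrArg (fun s => xe hp.inList K s t) h10
  obtain ⟨v, hv⟩ := sl3_small hK (neg_ne_zero.2 hc)
  have hlo : ∀ t : K, (PhiS hp K i (lo t))⁻¹ = PhiS hp K i (lo (-t)) := by
    intro t
    refine (eq_inv_of_mul_eq_one_left ?_).symm
    rw [← map_mul]
    have e : (lo (-t) * lo t : Matrix.SpecialLinearGroup (Fin 2) K) = 1 := by
      apply Subtype.ext
      rw [Matrix.SpecialLinearGroup.coe_mul]
      show !![1, 0; -t, 1] * !![1, 0; t, 1] = (1 : Matrix (Fin 2) (Fin 2) K)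
      ext a b
      fin_cases a <;> fin_cases b <;> simp
    rw [e, map_one]
  have hw : π (wc (-c)) = PhiS hp K i (up 1) * (b (PhiS hp K i (up 1)))⁻¹ := by
    rw [hb, mul_one, hlo]
    unfold wc
    rw [map_mul, e01, e10]
  refine (reach_of_hom π hw hv).sub ?_
  rintro _ ⟨g, rfl⟩
  have h1 : Subgroup.closure (Set.range (up (F := K)) ∪ Set.range (lo (F := K))) ≤ π.range.comap (PhiS hp K i) := by
    rw [Subgroup.closure_le]
    rintro _ (⟨a, rfl⟩ | ⟨a, rfl⟩)
    · exact ⟨_, e01 a⟩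
    · exact ⟨_, e10 a⟩
  exact h1 (SL2Hom.mem_closure_SL2 g)

/-- **START, `|K| = 2, 3`, a node in a table of type `A₂`.** -/
theorem start_an [Fintype K] (hK : Fintype.card K = 2 ∨ Fintype.card K = 3) {i : Fin l} {R : List (List ℕ)}
    {σ : List (List ℤ)} (hA : IsAn D 3 R σ) (h01 : rt R 0 1 = D.simple i) (hσ : sg σ 0 1 = 1)
    (p : ℕ) [Fact p.Prime] [CharP K p] {W : Type*} [Group W]
    [Finite W] (cs : CoxeterSystem M W) {v : W} {α β : MulAut ↥(D.group K)} {y k b : ↥(D.group K)}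
    (hk : Rp cs (rgd (K := K) hp cs p).nsys (v * cs.simple i * v⁻¹) k)
    (hb : b ∈ RGD.B cs hp.isCartan (TT D K) (XX D l K)) (Dg : Diag (TT D K) (XX D l K) β 1)
    (hα : MulAut.conj y * α * (MulAut.conj y)⁻¹ = MulAut.conj (k * b) * β)
    (hX : ∀ z ∈ XX D l K (rep cs hp.isCartan v (sr i)),
      (MulAut.conj (k * b) * β) z ∈ XX D l K (-rep cs hp.isCartan v (sr i))) :
    Reach α 4 (XX D l K (rep cs hp.isCartan v (sr i)) ⊔ XX D l K (-rep cs hp.isCartan v (sr i))) := by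
  have : Finite ↥(D.group K) := finite_group D K
  have R' := rgd (K := K) hp cs p
  obtain ⟨y', τ, c, hc, -, h1⟩ := exists_semi_node R'
    (Cfsg.Agent.KFacts.RgdRigid.GG_eq_top (G1_eq_top (K := K) hp cs)) (coordS hp cs p i)
    (PhiS_wS hp i) hk hb Dg hα hX
  have hτ : ∀ t, τ t = t := fun t => by
    have h2 := FiniteField.pow_card t
    have h3 : t = 0 ∨ t = 1 ∨ t = -1 := by
      rcases hK with h | h
      · rw [h] at h2
        have h3 : t * (t - 1) = 0 := by linear_combination h2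
        rcases mul_eq_zero.1 h3 with h4 | h4
        · exact Or.inl h4
        · exact Or.inr (Or.inl (sub_eq_zero.1 h4))
      · rw [h] at h2
        have h3 : t * ((t - 1) * (t + 1)) = 0 := by linear_combination h2
        rcases mul_eq_zero.1 h3 with h4 | h4
        · exact Or.inl h4
        rcases mul_eq_zero.1 h4 with h5 | h5
        · exact Or.inr (Or.inl (sub_eq_zero.1 h5))
        · exact Or.inr (Or.inr (eq_neg_of_add_eq_zero_left h5))
    rcases h3 with rfl | rfl | rfl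
    · rw [map_zero]
    · rw [map_one]
    · rw [map_neg, map_one]
  simp only [hτ] at h1
  have h2 := start_tab hp hK hA h01 hσ hc h1
  obtain ⟨kv, hkv⟩ := exists_rp cs R'.nsys v
  have h6 : XX D l K (sr i) ⊔ XX D l K (-sr i) ≤ (PhiS hp K i).range := by
    have C := coords (K := K) hp cs p
    refine sup_le (fun z hz => ?_) (fun z hz => ?_)
    · obtain ⟨a, rfl⟩ := ((C.coord _ (isRoot_sr cs _ i)).mem z).1 hz
      exact ⟨up a, PhiS_up hp i a⟩
    · obtain ⟨a, rfl⟩ := ((C.coord _ (isRoot_sr cs _ i).neg).mem z).1 hz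
      exact ⟨lo a, PhiS_lo hp i a⟩
  have h8 := ((reach_conj h2).sub h6).conj kv
  have h9 : cj kv (XX D l K (sr i) ⊔ XX D l K (-sr i)) =
      XX D l K (rep cs hp.isCartan v (sr i)) ⊔ XX D l K (-rep cs hp.isCartan v (sr i)) := by
    rw [cj_sup, R'.conj_rp hkv (isRoot_sr cs _ i), R'.conj_rp hkv (isRoot_sr cs _ i).neg, map_neg]
  rw [← h9]
  exact h8

end Split

/-! ### `F₄` -/

section F4

open Cfsg.Agent.Nodes.KindF Cfsg.Agent.H519.GE
open Cfsg.Agent.H519.GE.F4 (f4_top f4_node)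

set_option maxRecDepth 100000 in
theorem isAnF : IsAn chevF4 3 [[0, 33, 34], [14, 0, 27], [13, 20, 0]] [[1, 1, -1], [1, 1, 1], [-1, 1, 1]] :=
  { lt := by decide +kernel, neg := by decide +kernel, comm := by decide +kernel, br := by decide +kernel }

variable {W : Type*} [Group W] [Finite W] (cs : CoxeterSystem CoxeterMatrix.F₄ W) {K : Type u} [Field K]
  (p : ℕ) [Fact p.Prime] [CharP K p] {α β : MulAut ↥(chevF4.group K)} {y k b : ↥(chevF4.group K)} {w : W}

/-- **The exceptional automorphisms of `F₄(q)`, `q` odd.** -/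
theorem f4_exc [Fintype K] (h2 : (2 : K) ≠ 0)
    (hk : Rp cs (rgd (K := K) isType cs p).nsys w k)
    (hb : b ∈ RGD.B cs isType.isCartan (TT chevF4 K) (XX chevF4 4 K)) (Dβ : Diag (TT chevF4 K) (XX chevF4 4 K) β 1)
    (hα : MulAut.conj y * α * (MulAut.conj y)⁻¹ = MulAut.conj (k * b) * β)
    (hmax : ∀ (z : ↥(chevF4.group K)) (w' : W), Cell (rgd (K := K) isType cs p).nsys cs isType.isCartan
      (XX chevF4 4 K) w' (z * (k * b) * (β z)⁻¹) → cs.length w' ≤ cs.length w)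
    (hw : ∀ x, rep cs isType.isCartan w x = x - cpr cs isType.isCartan x (th 3 2 1 0) • th 3 2 1 0)
    {m : ℕ} (hm : m.Prime) (hαm : α ^ m = 1) : Reach α 8 ⊤ := by
  by_cases h4 : 4 ≤ Fintype.card K
  · exact f4_node cs p h4 h2 hk hb Dβ hα hmax hw hm hαm
  · have hK : Fintype.card K = 2 ∨ Fintype.card K = 3 := by
      have := Fintype.one_lt_card (α := K)
      omega
    exact (f4_top cs p h2 hk hb Dβ hα hmax hw (N := 4) fun v _ hk' hX =>
      start_an isType hK isAnF (by decide +kernel) rfl p cs hk' hb Dβ hα hX).mono (by norm_num) (by norm_num)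

end F4

end Cfsg.Agent.H38.Gs

private theorem dce_078ff6ec3b31 : _root_.True := by
  try have : _root_.True := by simp only [_root_.Cfsg.Agent.H38.Gs.PhiS.congr_simp]
  exact _root_.True.intro
end

-- part: H290/GS/RowF4
section
prune_inst 0x302045043422000000000000020001606a000092000308008120014608010020800026010e1010108846ac842000002000000110402800000a000000411800a0802b52200310ad04120001801004000000000000020000000000000000000000000000000
set_option linter.all false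
open scoped Cfsg.Agent.FastGrp

/-!
# The row `F₄(q)` of S4327 (helper290)

* `gam_case` : `q` even, `σ = 1`, `w` the reflection in the highest short root: transport by the graph automorphism;
* `ca` : every automorphism of prime order, `row` : the field `f4` of the frame.
-/

set_option autoImplicit false
set_option linter.unusedSectionVars false

namespace Cfsg.Agent.H290.GS.RowF4

open CoxeterSystem Cfsg.Agent.ChevalleyStructure.CoxeterGeom Cfsg.Agent.Tits.Roots Cfsg.Agent.Tits.Core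
  Cfsg.Agent.Tits.Exchange
open Cfsg.Lie Cfsg.Agent.ChevalleyStructure Cfsg.Agent.ChevalleyStructure.Elts
  Cfsg.Agent.ChevalleyStructure.CoxeterGeomTypes
open Cfsg.Agent.Nodes.Reps Cfsg.Agent.Nodes.BNOf Cfsg.Agent.Nodes.RGDChev Cfsg.Agent.Nodes.Coroot
  Cfsg.Agent.Nodes.KindF Cfsg.Agent.Nodes.StabComb Cfsg.Agent.Nodes.OppDec Cfsg.Agent.Nodes.Bruhat
  Cfsg.Agent.KFacts.RgdAut Cfsg.Agent.KFacts.RgdDiag Cfsg.Agent.KFacts.RgdRigid
open Cfsg.Agent.KFacts.RgdChevCoord (TT XX)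
open Cfsg.Agent.H296.FFour (al)
open Cfsg.Agent.H290.GS.GamF4
open Cfsg.Agent.H290.GS.F4 (pi4 cF)
open Cfsg.Agent.H400.TwoExc (toV)
open Cfsg.Agent.H400.Gs.RowF (End good)
open Cfsg.Agent.H915.Gs (Reach im)
open Cfsg.Agent.H147.Gen (CA Gen11)
open Cfsg.Agent.H441.GS (ca_of_reach gen_of_reach)

universe u

theorem reach_of_al {Y : Type*} [Group Y] {a γ : MulAut Y} {k : ℕ} (h : Reach (γ * a * γ⁻¹) k ⊤) :
    Reach a k ⊤ := by
  have h1 := h.of_mul_conj
  refine h1.sub ?_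
  intro z _
  refine ⟨γ z, Subgroup.mem_top _, ?_⟩
  exact MulAut.inv_apply_self _ γ z

theorem pi4_s : pi4 (toV [2, 3, 2, 1] : Fin 4 → ℤ) = toV [2, 4, 3, 2] := by decide +kernel

theorem isRoot_s {W : Type*} [Group W] (cs : CoxeterSystem CoxeterMatrix.F₄ W) :
    IsRoot cs isType.isCartan (toV [2, 3, 2, 1] : Fin 4 → ℤ) := by
  have h1 : ∃ r < 48, vec chevF4 4 r = (toV [2, 3, 2, 1] : Fin 4 → ℤ) := by decide +kernel
  obtain ⟨r, hr, h2⟩ := h1
  exact (isRoot_iff isType cs _).2 ⟨r, by rw [Cfsg.Agent.H127.Gs.nroots_F4]; exact hr, h2⟩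

section Gam

variable {K : Type u} [Field K] [Fintype K] [CharP K 2] {W : Type*} [Group W] [Finite W]
  (cs : CoxeterSystem CoxeterMatrix.F₄ W) (hE : End isType K cs)

include hE in
/-- **`q` even, the reflection in the highest short root.** -/
theorem gam_case [Fact (Nat.Prime 2)] {w : W} (hw : ∀ x, rep cs isType.isCartan w x =
      x - cpr cs isType.isCartan x (toV [2, 3, 2, 1]) • toV [2, 3, 2, 1]) {α β : MulAut ↥(chevF4.group K)}
    {y₀ k b : ↥(chevF4.group K)} (hk : Rp cs (rgd (K := K) isType cs 2).nsys w k)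
    (hb : b ∈ RGD.B cs isType.isCartan (TT chevF4 K) (XX chevF4 4 K))
    (D : Diag (TT chevF4 K) (XX chevF4 4 K) β 1)
    (e : MulAut.conj y₀ * α * (MulAut.conj y₀)⁻¹ = MulAut.conj (k * b) * β) {m : ℕ} (hmp : m.Prime)
    (hm : α ^ m = 1) : Reach α 11 ⊤ := by
  have hP : PerfectRing K 2 := PerfectRing.ofFiniteOfIsReduced 2 K
  have Dγ := diag_al (K := K) cs
  have hs := isRoot_s cs
  have h1 : rep cs isType.isCartan w (toV [2, 3, 2, 1]) = -toV [2, 3, 2, 1] := by
    rw [hw, cpr_self cs isType.isCartan hs, two_smul]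
    abel
  obtain ⟨x, -, hx, h2⟩ := swap_w cs hs h1
  rw [pi4_s] at hx
  subst hx
  have e' := form_conj (al K) e
  have hk' := Dγ.rp' (R := rgd (K := K) isType cs 2) mat_rev hk
  have hb' : al K b ∈ RGD.B cs isType.isCartan (TT chevF4 K) (XX chevF4 4 K) := (fix_al cs b).2 hb
  have D' : Diag (TT chevF4 K) (XX chevF4 4 K) (al K * β * (al K)⁻¹) 1 := by
    have := (Dγ.mul D).mul Dγ.inv
    rwa [mul_one, mul_inv_cancel] at this
  refine reach_of_al (γ := al K) (good isType cs 2 hE (v := 1) ?_ hk' hb' D' e' hmp ?_)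
  · rw [map_one, Module.End.one_apply]
    exact h2
  · rw [← MulAut.conj_apply (al K) α, ← map_pow, hm, map_one]

end Gam

/-! ### the order of the diagram part -/

section Perm

variable {I W Y : Type*} [Fintype I] [DecidableEq I] [Group W] [Group Y] {M : CoxeterMatrix I}
  {cs : CoxeterSystem M W} {A : I → I → ℤ} {h : IsCartan M A} {p : ℕ} {T : Subgroup Y} {n : I → Y}
  {X : (I → ℤ) → Subgroup Y}

theorem perm_pow (R : RGD cs h p T n X) [Finite W] (hG : Cfsg.Agent.Nodes.Bruhat.GG cs h T X = ⊤) {α : MulAut Y} {g₀ : Y}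
    {σ : Equiv.Perm I} (D : Diag T X (MulAut.conj g₀ * α) σ) {m : ℕ} (hm : α ^ m = 1) : σ ^ m = 1 := by
  obtain ⟨v, e⟩ := Cfsg.Agent.H441.GS.conj_pow g₀ α m
  rw [hm, mul_one] at e
  have Dm := D.pow m
  rw [e] at Dm
  have h1 : v ∈ BN cs h T X := by
    rw [← normalizer_UN R hG, Subgroup.mem_normalizer_iff]
    intro y
    exact (fix_UN_of R Dm y).symm
  have h2 : v ∈ RGD.B cs h T X := by
    rw [← normalizer_U' R hG, Subgroup.mem_normalizer_iff]
    intro y
    have h3 := fix_UN_of (Cfsg.Agent.KFacts.RgdOpp.opp R) Dm.opp y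
    rw [Cfsg.Agent.KFacts.RgdOpp.UN_opp] at h3
    exact h3.symm
  have hv : v ∈ T := by
    rw [← B_inf_BN R]
    exact ⟨h2, h1⟩
  ext i
  by_contra hne
  obtain ⟨u, hu, hu1⟩ := exists_ne_one R i
  have h3 := (Dm.pos i u).2 hu
  have h4 : MulAut.conj v u ∈ X (sr i) := by
    have h5 := R.tor _ (isRoot_sr cs h i) v hv
    rw [MulAut.conj_apply, ← h5, conj_mem_cj]
    exact hu
  have h5 : sr ((σ ^ m) i) ≠ (sr i : I → ℤ) := by
    intro h5
    have h6 := congrFun h5 ((σ ^ m) i)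
    rw [sr_self, sr_ne (show (σ ^ m) i ≠ i from hne)] at h6
    exact one_ne_zero h6
  have h6 := X_inf_X R (isRoot_sr cs h ((σ ^ m) i)) (isRoot_sr cs h i) h5
  rw [Subgroup.eq_bot_iff_forall] at h6
  exact hu1 ((MulAut.conj v).injective (by rw [h6 _ ⟨h3, h4⟩, map_one]))

end Perm

/-- **`F₄(q)`: every automorphism of prime order.** -/
theorem ca {K : Type u} [Field K] [Fintype K] [IsSimpleGroup ↥(chevF4.group K)] (hE : End isType K cF)
    {α : MulAut ↥(chevF4.group K)} (hα : (orderOf α).Prime) : CA 11 α := by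
  obtain ⟨p, hcp⟩ := CharP.exists K
  have hp' : Fact p.Prime := ⟨CharP.char_is_prime K p⟩
  have hW : Finite CoxeterMatrix.F₄.Group := finite_W isType cF
  have R : RGD cF isType.isCartan p (TT chevF4 K) _ (XX chevF4 4 K) := rgd (K := K) isType cF p
  have hG : Cfsg.Agent.Nodes.Bruhat.GG cF isType.isCartan (TT chevF4 K) (XX chevF4 4 K) = ⊤ := GG_eq_top (G1_eq_top (K := K) isType cF)
  have hα1 : α ≠ 1 := by
    rintro rfl
    rw [orderOf_one] at hα
    exact Nat.not_prime_one hα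
  have hm := pow_orderOf_eq_one α
  have : Finite ↥(chevF4.group K) := Cfsg.Agent.H122.S5.finite_group (D := chevF4) K
  obtain ⟨g₀, σ, D, hB⟩ := Cfsg.Agent.H934.RowRgd.exists_conj_diag R hG α
  have key : (2 : K) = 0 → p = 2 := fun h2 => by
    have h3 : p ∣ 2 := (CharP.cast_eq_zero_iff K p 2).1 (by exact_mod_cast h2)
    exact ((Nat.prime_dvd_prime_iff_eq hp'.out Nat.prime_two).1 h3)
  by_cases hσ : σ = 1
  · subst hσ
    obtain ⟨y, k, b, w, e, hk, hb, hw1, hmax, hst⟩ :=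
      Cfsg.Agent.H400.Gs.exists_form_of R hG (Cfsg.Agent.H441.GS.B_ne_top R) rfl D hB
    have Hw : ∀ i, rep cF isType.isCartan w (sr i) = sr i ∨ rep cF isType.isCartan w (sr i) ≤ 0 := fun i => by
      rcases hst i with h1 | h1
      · exact Or.inl h1
      · exact Or.inr h1.1
    obtain ⟨-, ⟨v, hv⟩ | hs⟩ := Cfsg.Agent.H400.Gs.dichF cF isType Hw (hw1 hα1)
    · exact ca_of_reach (good isType cF p hE hv hk hb D e hα hm)
    · by_cases h2 : (2 : K) = 0
      · obtain rfl := key h2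
        exact ca_of_reach (gam_case cF hE hs hk hb D e hα hm)
      · refine ca_of_reach ((Cfsg.Agent.H38.Gs.f4_exc cF p h2 hk hb D e hmax (fun x => ?_) hα hm).mono (by norm_num)
          (by norm_num))
        have e1 : (Cfsg.Agent.H519.GE.th 3 2 1 0 : Fin 4 → ℤ) = toV [2, 3, 2, 1] := by decide +kernel
        rw [e1]
        exact hs x
  · have h2 : (2 : K) = 0 := by
      by_contra h2
      exact hσ (Cfsg.Agent.H293.TwFix.perm_F4 h2 D)
    obtain rfl := key h2
    have h3 := perm_pow R hG D hm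
    have hσ' := (Cfsg.Agent.KFacts.RgdGraphF4.hsw_F4' σ (D.matrix R)).resolve_left hσ
    subst hσ'
    have h4 : orderOf α = 2 := by
      have h5 : orderOf (Fin.revPerm : Equiv.Perm (Fin 4)) ∣ orderOf α := orderOf_dvd_of_pow_eq_one h3
      have h6 : orderOf (Fin.revPerm : Equiv.Perm (Fin 4)) = 2 := by
        refine orderOf_eq_prime ?_ hσ
        decide
      rw [h6] at h5
      exact ((Nat.prime_dvd_prime_iff_eq Nat.prime_two hα).1 h5).symm
    have h7 : α * α = 1 := by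
      rw [← pow_two, ← h4, hm]
    exact Cfsg.Agent.H290.GS.F4.swap_CA h7 D hB hσ

/-- the row `F₄(q)` -/
theorem row_of (hE : ∀ (K : Type) [Field K] [Fintype K], End isType K cF) {L : Type*} [Group L]
    [IsSimpleGroup L] (hL : Lie.IsoF4 L) : Gen11 L := by
  obtain ⟨K, _, _, ⟨e⟩⟩ := hL
  have : IsSimpleGroup ↥(chevF4.group K) := e.symm.isSimpleGroup
  exact Gen11.congr e.symm fun x hx => ca (hE K) hx

end Cfsg.Agent.H290.GS.RowF4
end

-- part: H400/GsEndF
section
prune_inst 0x302001044400000000180000000021402a00000200230000b1000804004e1120a001270164c01a100806ac44200a8000000000500020000000008000411800a0842a52400300a104220001807804000000000000020000000000000000041000000000000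
set_option linter.all false
open scoped Cfsg.Agent.FastGrp

/-!
# The final step of the chain of `F₄(q)` (S4327), helper400

All long root groups are in `J`, `a` maps `X (-r)` onto `X r`, `r` long: `Reach a (k + 2) ⊤`, any characteristic.
-/

set_option autoImplicit false
set_option linter.unusedSectionVars false

namespace Cfsg.Agent.H400.Gs.RowF

open CoxeterSystem Cfsg.Agent.ChevalleyStructure.CoxeterGeom Cfsg.Agent.Tits.Roots Cfsg.Agent.Tits.Core
  Cfsg.Agent.Tits.Exchange Cfsg.Agent.Nodes.Reps Cfsg.Agent.Nodes.BNOf Cfsg.Agent.Nodes.StabComb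
  Cfsg.Agent.Nodes.Bruhat Cfsg.Agent.Nodes.OppDec Cfsg.Agent.Nodes.Coroot
open Cfsg.Agent.H441.GS Cfsg.Agent.H400.TwoExc Cfsg.Agent.KFacts.RgdChevCoord
open Cfsg.Lie Cfsg.Agent.ChevalleyStructure Cfsg.Agent.ChevalleyStructure.Elts
  Cfsg.Agent.ChevalleyStructure.CoxeterGeomTypes Cfsg.Agent.Nodes.RGDChev Cfsg.Agent.Nodes.KindChev
open Cfsg.Agent.H915.Gs (Reach im)
open scoped commutatorElement

universe u

section

variable (hp : IsType chevF4 4 CoxeterMatrix.F₄) {K : Type u} [Field K] {W : Type*} [Group W]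
  (cs : CoxeterSystem CoxeterMatrix.F₄ W)

include hp in
theorem mem_xx {r : ℕ} (hr : r < chevF4.nroots) {v : Fin 4 → ℤ} (hv : vec chevF4 4 r = v) (u : ↥(chevF4.group K)) :
    u ∈ XX chevF4 4 K v ↔ ∃ t, xG hp.inList r t = (u : GL chevF4.Idx K) := by
  subst hv
  rw [Subgroup.mem_subgroupOf, XV_vec hp K hr, mem_rootSubgroup_iff hp.inList]
  exact ⟨fun ⟨t, ht⟩ => ⟨t, ht.symm⟩, fun ⟨t, ht⟩ => ⟨t, ht.symm⟩⟩

variable [Finite W]

/-- **One conjugate adds a short root group.** -/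
theorem stepF {ρ f s l : Fin 4 → ℤ} {nr fi si li : ℕ} (h1 : vec chevF4 4 nr = -ρ) (h2 : vec chevF4 4 fi = f)
    (h3 : vec chevF4 4 si = s) (h4 : vec chevF4 4 li = l) (l1 : nr < chevF4.nroots) (l2 : fi < chevF4.nroots)
    (l3 : si < chevF4.nroots) (l4 : li < chevF4.nroots) (hne : fi ≠ nr) (hne' : fi ≠ chevF4.neg nr)
    (ht : chevF4.commTerms nr fi = [(si, 1, 1, 1), (li, 1, 1, 2)]) (hn : ¬ IsRoot cs hp.isCartan (f + ρ))
    (hfr : f ≠ -ρ) {a : MulAut ↥(chevF4.group K)} (hO : OP a (XX chevF4 4 K ρ) (XX chevF4 4 K (-ρ))) {k : ℕ}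
    {J : Subgroup ↥(chevF4.group K)} (hJ : Reach a k J) (hρ : XX chevF4 4 K ρ ≤ J) (hρ' : XX chevF4 4 K (-ρ) ≤ J)
    (hl : XX chevF4 4 K l ≤ J) : Reach a (k + 1) (J ⊔ XX chevF4 4 K s) := by
  have rρ : IsRoot cs hp.isCartan ρ := by
    have := (isRoot_vec hp cs l1).neg
    rwa [h1, neg_neg] at this
  have rf : IsRoot cs hp.isCartan f := h2 ▸ isRoot_vec hp cs l2
  obtain ⟨u, hu⟩ : ∃ u : ↥(chevF4.group K), (u : GL chevF4.Idx K) = xG hp.inList fi 1 :=
    ⟨⟨_, xG_mem_group hp.inList fi 1⟩, rfl⟩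
  have huf : u ∈ XX chevF4 4 K f := (mem_xx hp l2 h2 u).2 ⟨1, hu.symm⟩
  have hcm : ∀ v ∈ XX chevF4 4 K ρ, u * v = v * u := fun v hv =>
    Subtype.ext (commX hp chkNF rf rρ hfr hn huf hv)
  have hcen : (XX chevF4 4 K ρ).map (MulAut.conj u).toMonoidHom = XX chevF4 4 K ρ := by
    ext w
    constructor
    · rintro ⟨v, hv, rfl⟩
      have h3 : (MulAut.conj u).toMonoidHom v = v := by
        change u * v * u⁻¹ = v
        rw [hcm v hv, mul_inv_cancel_right]
      rw [h3]; exact hv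
    · intro hw
      refine ⟨w, hw, ?_⟩
      change u * w * u⁻¹ = w
      rw [hcm w hw, mul_inv_cancel_right]
  have h5 := hO.conj u
  rw [hcen] at h5
  refine (h5.reach hJ hρ).sub (sup_le le_sup_left ?_)
  intro z hz
  obtain ⟨t, ht'⟩ := (mem_xx hp l3 h3 z).1 hz
  obtain ⟨y, hy⟩ : ∃ y : ↥(chevF4.group K), (y : GL chevF4.Idx K) = xG hp.inList nr (-t) :=
    ⟨⟨_, xG_mem_group hp.inList nr (-t)⟩, rfl⟩
  obtain ⟨y', hy'⟩ : ∃ y : ↥(chevF4.group K), (y : GL chevF4.Idx K) = xG hp.inList li (-t) :=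
    ⟨⟨_, xG_mem_group hp.inList li (-t)⟩, rfl⟩
  have hyJ : y ∈ XX chevF4 4 K (-ρ) := (mem_xx hp l1 h1 y).2 ⟨-t, hy.symm⟩
  have hyJ' : y' ∈ J := hl ((mem_xx hp l4 h4 y').2 ⟨-t, hy'.symm⟩)
  have h6 := comm_xG hp (K := K) l1 l2 hne hne' t (-1)
  have h7 : chevF4.commWord K nr fi t (-1) = [(si, t), (li, -t)] := by
    show (chevF4.commTerms nr fi).map _ = _
    rw [ht]
    simp
  rw [h7, wordG_cons, wordG_cons, wordG_nil, mul_one, ← xG_inv, inv_inv, xG_inv] at h6
  have h8 : ⁅u, y⁆ = z * y' := by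
    apply Subtype.ext
    show ⁅(u : GL chevF4.Idx K), (y : GL chevF4.Idx K)⁆ = (z : GL chevF4.Idx K) * (y' : GL chevF4.Idx K)
    rw [hu, hy, hy', ← ht', h6]
  have h9 : z = ⁅u, y⁆ * y'⁻¹ := by rw [h8]; group
  rw [h9, commutatorElement_def]
  refine mul_mem (mul_mem (Subgroup.mem_sup_right ?_) (Subgroup.mem_sup_left (hρ' (inv_mem hyJ))))
    (Subgroup.mem_sup_left (inv_mem hyJ'))
  exact ⟨y, hyJ, by simp [MulAut.conj_apply]⟩

end

def kF : List (List ℤ) := [[0, -2, -1, 0], [2, 4, 3, 1], [0, 2, 1, 1], [-2, -4, -2, -1], [0, 0, 1, 1], [2, 2, 1, 1], [-2, -2, -1, -1], [-2, -2, -2, -1], [0, 0, -1, -1], [0, 2, 1, 0], [0, 0, 0, 1], [0, 0, 1, 0], [0, 0, 0, -1], [-2, -4, -3, -1], [-2, -4, -3, -2], [2, 2, 1, 0], [2, 4, 2, 1], [-2, -2, -1, 0], [0, 2, 2, 1], [0, -2, -1, -1], [0, -2, -2, -1], [0, 0, -1, 0], [2, 4, 3, 2], [2, 2, 2, 1], [1, 0, 0, 0], [0, 1, 0, 0]]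

def ruF : List Ru := [.ref [0, -2, -1, 0] [1, 0, 0, 0] (1),
  .ref [0, -2, -1, 0] [0, 1, 0, 0] (-1),
  .ref [2, 4, 3, 1] [1, 2, 1, 0] (1),
  .ref [2, 4, 3, 1] [0, -1, -1, 0] (-1),
  .ref [0, 2, 1, 1] [1, 0, 0, 0] (-1),
  .ref [0, 2, 1, 1] [0, 1, 0, 0] (1),
  .ref [-2, -4, -2, -1] [0, 1, 0, 0] (-1),
  .ref [-2, -4, -2, -1] [1, 2, 1, 0] (-1),
  .ref [-2, -4, -2, -1] [2, 3, 2, 1] (-1),
  .ref [-2, -4, -2, -1] [1, 2, 1, 1] (-1),
  .ref [0, 0, 1, 1] [0, 1, 0, 0] (-1),
  .ref [0, 0, 1, 1] [1, 2, 1, 0] (-1),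
  .ref [2, 2, 1, 1] [2, 3, 2, 1] (1),
  .ref [2, 2, 1, 1] [1, 2, 1, 1] (1),
  .sum [1, 0, 0, 0] [0, 1, 0, 0],
  .ref [-2, -4, -2, -1] [1, 1, 0, 0] (-1),
  .ref [0, 0, 1, 1] [1, 1, 0, 0] (-1),
  .ref [2, 2, 1, 1] [1, 1, 0, 0] (1),
  .ref [2, 2, 1, 1] [1, 1, 1, 1] (1),
  .ref [-2, -2, -2, -1] [1, 1, 1, 1] (-1),
  .ref [-2, -2, -2, -1] [-1, -1, -1, -1] (1),
  .ref [0, 2, 1, 0] [1, 1, 1, 1] (-1)]

/-- the check of the certificate -/
def chkE : Bool :=
  (kF.all fun v => (isL PF4c 4 v) || v == [1, 0, 0, 0] || v == [0, 1, 0, 0]) &&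
  (match run PF4c kF ruF with
  | some K => PF4c.all fun q => K.contains q.1 && K.contains (negL q.1)
  | none => false)

theorem chkE_true : chkE = true := by decide +kernel

section

variable (hp : IsType chevF4 4 CoxeterMatrix.F₄) {K : Type u} [Field K] {W : Type*} [Group W] [Finite W]
  (cs : CoxeterSystem CoxeterMatrix.F₄ W) [Fintype K] (p : ℕ) [Fact p.Prime] [CharP K p]

include p in
theorem all_le {J : Subgroup ↥(chevF4.group K)}
    (hL : ∀ x, IsRoot cs hp.isCartan x → qf (cartanOf chevF4 4) (toV dlF4c) x x = 4 → XX chevF4 4 K x ≤ J)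
    (h1 : XX chevF4 4 K (toV [1, 0, 0, 0]) ≤ J) (h2 : XX chevF4 4 K (toV [0, 1, 0, 0]) ≤ J) : J = ⊤ := by
  have R := rgd (K := K) hp cs p
  have H := (prF hp cs).1
  have F := (prF hp cs).2
  have hc := chkE_true
  unfold chkE at hc
  rw [Bool.and_eq_true, List.all_eq_true] at hc
  obtain ⟨hc1, hc2⟩ := hc
  have h0 : ∀ v ∈ kF, XX chevF4 4 K (toV v) ≤ J := by
    intro v hv
    have h3 := hc1 v hv
    simp only [Bool.or_eq_true, beq_iff_eq] at h3
    rcases h3 with (h3 | rfl) | rfl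
    · obtain ⟨-, h4, h5⟩ := of_isL (cs := cs) (h := hp.isCartan) H F h3
      exact hL _ h4 h5
    · exact h1
    · exact h2
  rcases hK : run PF4c kF ruF with _ | K'
  · rw [hK] at hc2
    cases hc2
  · rw [hK] at hc2
    have h3 := run_le R H F hdF (noThreeF hp cs) (fun x hx => H441.GS.exists_ne R hx) ruF hK h0
    rw [← top_le_iff, ← G1_eq_top (K := K) hp cs]
    refine RGD.Sup_le fun x hx u hu => ?_
    obtain ⟨q, hq, hqx⟩ := exists_entry (cs := cs) (h := hp.isCartan) H hx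
    have h4 := List.all_eq_true.1 hc2 q hq
    rw [Bool.and_eq_true, List.contains_iff_mem, List.contains_iff_mem] at h4
    rcases hqx with rfl | rfl
    · exact h3 _ h4.1 hu
    · rw [← toV_negL] at hu
      exact h3 _ h4.2 hu

include p in
/-- **The final step of `F₄(q)`.** -/
theorem end_two (a : MulAut ↥(chevF4.group K)) (k : ℕ) (J : Subgroup ↥(chevF4.group K))
    (ha : ∀ z, a z ∈ XX chevF4 4 K (toV [2, 4, 3, 2]) ↔ z ∈ XX chevF4 4 K (-toV [2, 4, 3, 2])) (hJ : Reach a k J)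
    (hL : ∀ x, IsRoot cs hp.isCartan x → qf (cartanOf chevF4 4) (toV dlF4c) x x = 4 → XX chevF4 4 K x ≤ J) :
    Reach a (k + 2) ⊤ := by
  have R := rgd (K := K) hp cs p
  have H := (prF hp cs).1
  have F := (prF hp cs).2
  have hr : IsRoot cs hp.isCartan (toV [2, 4, 3, 2]) := (grF' hp cs).rr
  have hdr := dom_of_chk hAF F domF4c (by decide +kernel)
  -- the pairs
  have hO0 : OP a (XX chevF4 4 K (-toV [2, 4, 3, 2])) (XX chevF4 4 K (- -toV [2, 4, 3, 2])) := by
    refine OP.of_im ?_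
    rw [neg_neg]
    ext z
    rw [im, Subgroup.mem_map]
    constructor
    · rintro ⟨y, hy, rfl⟩
      exact (ha y).2 hy
    · intro hz
      exact ⟨a⁻¹ z, (ha _).1 (by rwa [MulAut.apply_inv_self]), MulAut.apply_inv_self _ a z⟩
  have hO : ∀ v : List ℤ, isL PF4c 4 v = true → OP a (XX chevF4 4 K (toV v)) (XX chevF4 4 K (-toV v)) := by
    intro v hv
    obtain ⟨-, h4, h5⟩ := of_isL (cs := cs) (h := hp.isCartan) H F hv
    obtain ⟨w, hw⟩ := (orbit_iff H hdF hdr h4.neg).2 (by rw [qf_neg_neg hdF, h5]; decide +kernel)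
    have h6 := hO0.root R hr.neg w
    rw [map_neg, hw, neg_neg] at h6
    exact h6
  have nroot : ∀ v : Fin 4 → ℤ, qf (cartanOf chevF4 4) (toV dlF4c) v v = 10 → ¬ IsRoot cs hp.isCartan v := by
    intro v hv hr
    rcases hqF hp cs v hr with h | h <;> omega
  have long : ∀ v : List ℤ, isL PF4c 4 v = true → XX chevF4 4 K (toV v) ≤ J ∧ XX chevF4 4 K (-toV v) ≤ J := by
    intro v hv
    obtain ⟨-, h4, h5⟩ := of_isL (cs := cs) (h := hp.isCartan) H F hv
    exact ⟨hL _ h4 h5, hL _ h4.neg (by rw [qf_neg_neg hdF, h5])⟩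
  have s1 := stepF hp cs (K := K) (ρ := toV [0, 2, 1, 0]) (f := toV [1, 2, 1, 0]) (s := toV [1, 0, 0, 0])
    (l := toV [2, 2, 1, 0]) (nr := 17) (fi := 37) (si := 33) (li := 41) (by decide +kernel) (by decide +kernel)
    (by decide +kernel) (by decide +kernel) (by decide +kernel) (by decide +kernel) (by decide +kernel)
    (by decide +kernel) (by decide) (by decide +kernel) (by decide +kernel)
    (nroot _ (by decide +kernel)) (by decide +kernel) (hO [0, 2, 1, 0] (by decide +kernel)) hJ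
    (long [0, 2, 1, 0] (by decide +kernel)).1 (long [0, 2, 1, 0] (by decide +kernel)).2
    (long [2, 2, 1, 0] (by decide +kernel)).1
  have s2 := stepF hp cs (K := K) (ρ := toV [0, 0, 1, 0]) (f := toV [0, 1, 1, 0]) (s := toV [0, 1, 0, 0])
    (l := toV [0, 2, 1, 0]) (nr := 22) (fi := 28) (si := 27) (li := 30) (by decide +kernel) (by decide +kernel)
    (by decide +kernel) (by decide +kernel) (by decide +kernel) (by decide +kernel) (by decide +kernel)
    (by decide +kernel) (by decide) (by decide +kernel) (by decide +kernel)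
    (nroot _ (by decide +kernel)) (by decide +kernel) (hO [0, 0, 1, 0] (by decide +kernel)) s1
    ((long [0, 0, 1, 0] (by decide +kernel)).1.trans le_sup_left)
    ((long [0, 0, 1, 0] (by decide +kernel)).2.trans le_sup_left)
    ((long [0, 2, 1, 0] (by decide +kernel)).1.trans le_sup_left)
  obtain ⟨J', hJ'⟩ : ∃ J', J' = J ⊔ XX chevF4 4 K (toV [1, 0, 0, 0]) ⊔ XX chevF4 4 K (toV [0, 1, 0, 0]) := ⟨_, rfl⟩
  rw [← hJ'] at s2
  have h5 : J' = ⊤ := all_le hp cs p (fun x hx hn => (hL x hx hn).trans (by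
      rw [hJ']; exact le_sup_left.trans le_sup_left))
    (by rw [hJ']; exact le_sup_right.trans le_sup_left) (by rw [hJ']; exact le_sup_right)
  rw [h5] at s2
  exact s2

include p in
theorem end_all : End hp K cs := fun a k J ha hJ hL =>
  (end_two hp cs p a k J ha hJ hL).mono (by omega) (by omega)

end

end Cfsg.Agent.H400.Gs.RowF
end

-- part: H400/GsF4
section
set_option linter.all false

/-!
# The row `F₄(q)` of S4327, helper400, helper290
-/

set_option autoImplicit false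

namespace Cfsg.Agent.H400.Gs.RowF

universe u

/-- **The row `F₄(q)` of S4327.** -/
theorem f4 (L : Type u) [Group L] [Finite L] [IsSimpleGroup L] (hL : Lie.IsoF4 L) : H147.Gen.Gen11 L :=
  H290.GS.RowF4.row_of (fun K _ _ => by
    obtain ⟨p, hpK⟩ := CharP.exists K
    have : Fact p.Prime := ⟨CharP.char_is_prime K p⟩
    have hW : Finite CoxeterMatrix.F₄.Group :=
      Cfsg.Agent.Nodes.RGDChev.finite_W Cfsg.Agent.Nodes.KindF.isType CoxeterMatrix.F₄.toCoxeterSystem
    exact end_all _ _ p) hL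

end Cfsg.Agent.H400.Gs.RowF
end

-- part: H966/Gen/HS
section
set_option linter.all false
open scoped Cfsg.Agent.FastGrp

/-!
# S4327, row `HS` (helper966)

* inner automorphisms: the chain alone (all orders of proper subgroups allowed by the engine, height 10);
* outer involutions: two classes (`CpAutTwo.HS.outer_cases`); two conjugates of `d`, four conjugates of `z` generate a
  group of order divisible by 11, then the chain (height 4).
-/

set_option autoImplicit false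
set_option linter.unusedSectionVars false
set_option maxRecDepth 100000

namespace Cfsg.Agent.H966.Gen.HS

open Subgroup Cfsg
open Cfsg.Agent.HN Cfsg.Agent.HN.Pres Cfsg.Agent.HN.HS100 Cfsg.Agent.HN.P1408 Cfsg.Agent.HN.H0Basic
open Cfsg.Agent.KFacts.HS Cfsg.Agent.KFacts.HS.DFour
open Cfsg.Agent.H147.Gen Cfsg.Agent.H799.PiBS.HS Cfsg.Agent.H940.Eng Cfsg.Agent.H940.Eng.D
open Cfsg.Agent.H715.Fpr

universe u

section words

variable {L : Type*} [Group L] (D : Cfsg.Agent.KFacts.HS.Mod L)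

/-- product of conjugates -/
def W (h : List ℕ) (l : List (List ℕ)) : List ℕ := l.flatMap fun k => k ++ h ++ iw k

theorem W_mem {h : List ℕ} {G : Subgroup (MulAut L)} (l : List (List ℕ))
    (hl : ∀ k ∈ l, D.au (hw (k ++ h ++ iw k)) ∈ G) : D.au (hw (W h l)) ∈ G := by
  unfold W
  induction l with
  | nil =>
    rw [List.flatMap_nil, hw_nil, map_one]
    exact one_mem _
  | cons k l ih =>
    rw [List.flatMap_cons, hw_append, map_mul]
    exact mul_mem (hl k (List.mem_cons_self ..)) (ih fun k' hk' => hl k' (List.mem_cons_of_mem _ hk'))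

/-- the check: the words are even, the product of the conjugates has order 11 modulo `τ` -/
def chk11 (h : List ℕ) (l : List (List ℕ)) : Bool :=
  (l.all fun k => okw k && !(par k)) && okw (W h l) && !(par (W h l)) && trivv (wp (W h l) 11) && ntrivv (W h l)

theorem ca_of_chk {B : Base} {K : Type} [Group K] (hK : Spor.IsoHS K) (D : Cfsg.Agent.KFacts.HS.Mod K)
    {h : List ℕ} (l : List (List ℕ)) (hl : 0 < l.length) (hc : chk11 h l = true) (os : List ℕ)
    (ho : chkO2 l_hs n_hs 11 ⟨11, 11, [(5, 1), (11, 1)]⟩ os [] 20 HS.loc o_hs = true) {m : ℕ} (hm : chainOK2 os m = true)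
    (h1 : D.au (hw h) ≠ 1) : CA (l.length + m) (D.au (hw h)) := by
  unfold chk11 at hc
  simp only [Bool.and_eq_true, List.all_eq_true, Bool.not_eq_true'] at hc
  obtain ⟨⟨⟨⟨h2, h3⟩, h4⟩, h5⟩, h6⟩ := hc
  have hcx := HS.ctx B hK
  have := hcx.fin
  have hm2 : ∀ i : Fin l.length, l.get i ∈ l := fun i => List.get_mem l i
  let f : Fin l.length → K := fun i => D.π ⟨hw (l.get i), mem_K_of_par (h2 _ (hm2 i)).1 (h2 _ (hm2 i)).2⟩
  refine CA.of_eng2 hcx (a := 11) os (fun S ha hS => orders2 hcx ⟨11, 11, [(5, 1), (11, 1)]⟩ (by simp [HS.loc]) os 20 ho S ha hS)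
    hm h1 hl f ?_
  have hWK : hw (W h l) ∈ HN.HS100.K := mem_K_of_par h3 h4
  have hmem : D.π ⟨hw (W h l), hWK⟩ ∈ (closure (Set.range fun i => MulAut.conj (f i) * D.au (hw h) *
      (MulAut.conj (f i))⁻¹)).comap (MulAut.conj : K →* MulAut K) := by
    rw [mem_comap, ← D.au_K]
    refine W_mem D l fun k hk => ?_
    obtain ⟨i, hi⟩ := List.get_of_mem hk
    refine subset_closure ⟨i, ?_⟩
    show MulAut.conj (D.π ⟨hw (l.get i), _⟩) * D.au (hw h) * (MulAut.conj (D.π ⟨hw (l.get i), _⟩))⁻¹ = _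
    rw [← D.au_K]
    show D.au (hw (l.get i)) * D.au (hw h) * (D.au (hw (l.get i)))⁻¹ = _
    rw [hi, ← map_inv, ← map_mul, ← map_mul, ← hw_iw, ← hw_append, ← hw_append]
  have hord : orderOf (D.π ⟨hw (W h l), hWK⟩) = 11 := by
    have : Fact (Nat.Prime 11) := ⟨by norm_num⟩
    apply orderOf_eq_prime
    · rw [← map_pow, D.ker]
      have h7 := triv_spec h5
      rw [hw_wp] at h7
      exact h7
    · intro h7
      rw [D.ker] at h7
      exact ntriv_spec h6 h7
  rw [← hord]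
  exact dvd_card_of_mem hmem

end words

/-- orders divisible by 11 -/
def os11 : List ℕ := [11, 55, 660, 7920, 443520]

theorem ho11 : chkO2 l_hs n_hs 11 ⟨11, 11, [(5, 1), (11, 1)]⟩ os11 [] 20 HS.loc o_hs = true := by decide +kernel
theorem hm11 : chainOK2 os11 4 = true := Cfsg.Agent.H147.Gen.chain_fast (by decide +kernel)

theorem chk_z : chk11 [4] [[], [2, 2], [3], [3, 3]] = true := by decide +kernel
theorem chk_d : chk11 [1, 3, 1, 2, 1, 4, 3, 4, 2, 4] [[], [2, 2, 0, 2, 0, 3]] = true := by decide +kernel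

theorem n_z : ntrivv [4] = true := by decide +kernel
theorem n_d : ntrivv [1, 3, 1, 2, 1, 4, 3, 4, 2, 4] = true := by decide +kernel

/-- all orders -/
def os1 : List ℕ := [2, 3, 4, 5, 6, 7, 8, 9, 10, 11, 12, 14, 15, 16, 18, 20, 21, 24, 25, 30, 32, 36, 40, 42, 45, 48, 50, 55, 56,
  60, 64, 72, 75, 80, 90, 96, 100, 112, 120, 125, 128, 144, 150, 160, 168, 180, 192, 200, 225, 240, 250, 256, 288, 300, 320,
  336, 360, 375, 384, 400, 448, 450, 480, 500, 504, 512, 576, 600, 640, 660, 720, 750, 768, 800, 896, 900, 960, 1000, 1125,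
  1152, 1200, 1280, 1344, 1440, 1500, 1536, 1600, 1800, 1920, 2000, 2250, 2304, 2400, 2520, 2560, 2688, 2880, 3000, 3200,
  3584, 3600, 3840, 4000, 4032, 4500, 4608, 4800, 5040, 5760, 6000, 6400, 7200, 7680, 7920, 8000, 9000, 9600, 10752, 11520,
  12000, 12800, 14400, 16000, 18000, 19200, 20160, 23040, 24000, 28800, 32000, 32256, 36000, 38400, 40320, 48000, 57600,
  64000, 72000, 96000, 115200, 126000, 144000, 161280, 192000, 252000, 288000, 443520, 576000, 1008000, 2016000]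

theorem ho1 : chkO l_hs n_hs 1 l_hs (1 :: os1) [] 20 HS.loc o_hs = true := by exact Cfsg.Agent.H940.EngF.chkO_fast (by decide +kernel)
theorem hm1 : chainOK2 os1 10 = true := Cfsg.Agent.H147.Gen.chain_fast (by decide +kernel)

/-- **row `HS`** -/
theorem gen_hs' {K : Type} [Group K] (B : Base) (h : Spor.IsoHS K)
    (h2 : ∀ x : MulAut K, (orderOf x).Prime → x ∉ (MulAut.conj : K →* MulAut K).range → orderOf x = 2) : Gen11 K := by
  have := HS.fin h
  have := HS.simple h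
  have hcard : Nat.card K = 44352000 := NotCT.Orders.hs h
  obtain ⟨D⟩ := exists_mod h
  have hc : center K = ⊥ := H799.PiBS.center_bot (by rw [hcard]; norm_num)
  have hcx := HS.ctx B h
  refine gen11_of hc (fun p hp => ?_) h2 (fun x hx hn => ?_)
  · exact genI_of_chain os1 (fun S hS hS1 => by
      rcases List.mem_cons.1 (ordersD hcx (a := 1) l_hs (1 :: os1) 20 ho1 S (one_dvd _) hS) with h1 | h1
      · exact absurd (Subgroup.eq_bot_of_card_eq S h1) hS1
      · exact h1) hm1 hp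
  · have hin : ¬ ∃ g : K, x = MulAut.conj g := fun ⟨g, hg⟩ => hn ⟨g, hg.symm⟩
    obtain ⟨a, h1 | h1⟩ := CpAutTwo.HS.outer_cases D x hx hin
    · rw [h1, ← hw_z]
      exact (ca_conj a (ca_of_chk (B := B) h D [[], [2, 2], [3], [3, 3]] (by decide) chk_z os11 ho11 hm11
        (au_ne D n_z))).mono (by decide) (by decide)
    · rw [h1]
      exact (ca_conj a (ca_of_chk (B := B) h D (h := [1, 3, 1, 2, 1, 4, 3, 4, 2, 4]) [[], [2, 2, 0, 2, 0, 3]] (by decide) chk_d
        os11 ho11 hm11 (au_ne D n_d))).mono (by decide) (by decide)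

/-- **S4327, row `HS`** -/
theorem gen_hs {K : Type u} [Group K] (B : Base) (h : Spor.IsoHS K)
    (h2 : ∀ x : MulAut K, (orderOf x).Prime → x ∉ (MulAut.conj : K →* MulAut K).range → orderOf x = 2) : Gen11 K := by
  obtain ⟨e⟩ := h
  exact Gen11.congr e.symm (gen_hs' B ⟨MulEquiv.refl _⟩ (H966.Gen.out_two_transfer e h2))

end Cfsg.Agent.H966.Gen.HS
end
end
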